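import Cfsg.Agent.Lib.MinIdx.U3.Closure

/-!
# A small index forces transitivity with a large stabilizer
-/

set_option autoImplicit false

namespace CfsgLib.MinIdx.U3

open Matrix CfsgLib.Classical CfsgLib.Classical.Unitary CfsgLib.MinIdx.Un
open scoped LinearAlgebra.Projectivization

variable {F : Type*} [Field F] [Finite F] {σ : F →+* F} {q : ℕ} {x y : Fin 3 → F}
  {P : Matrix (Fin 3) (Fin 1) F}

omit [Finite F] in
theorem ue_pow (h : UFrob σ q) (s : Split σ 1 x y P) {a c : F} (he : Ok σ x (a • uv P) c) (k : ℕ) :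
    ∃ d, Ok σ x (((k : F) * a) • uv P) d ∧ ue h x (a • uv P) c ^ k = ue h x (((k : F) * a) • uv P) d ∧
      (a = 0 → d = (k : F) * c) := by
  induction k with
  | zero =>
    refine ⟨0, ?_, ?_, fun _ => by simp⟩
    · rw [Nat.cast_zero, zero_mul, zero_smul]; exact Ok.zero s.xx (by simp)
    · rw [Nat.cast_zero, zero_mul, zero_smul, ue_one, pow_zero]
  | succ k ih =>
    obtain ⟨d, hd, e, h0⟩ := ih
    have h1 := hd.add h he
    rw [← add_smul, ← add_one_mul, ← Nat.cast_succ] at h1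
    refine ⟨_, h1, ?_, fun ha => ?_⟩
    · rw [pow_succ, e, hd.mul h he, ← add_smul, ← add_one_mul, ← Nat.cast_succ]
    · subst ha
      rw [h0 rfl, mul_zero, zero_smul, uh_zero_left, sub_zero, Nat.cast_succ, add_one_mul]

omit [Finite F] in
theorem ue_pow_char (h : UFrob σ q) (s : Split σ 1 x y P) {a c : F} (he : Ok σ x (a • uv P) c) {p : ℕ}
    (hp : (p : F) = 0) : ue h x (a • uv P) c ^ p ^ 2 = 1 := by
  obtain ⟨d, hd, e, -⟩ := ue_pow h s he p
  rw [hp, zero_mul] at hd e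
  obtain ⟨d', hd', e', h0⟩ := ue_pow h s hd p
  rw [sq, pow_mul, e, e', h0 rfl, hp, zero_mul, zero_mul, zero_smul, ue_one]

omit [Finite F] in
theorem root_ne_one (h : UFrob σ q) {H : Subgroup (Cfsg.SU 3 F q)} (s : Split σ 1 x y P)
    (hA : rts h H x P ≠ ⊥) : ∃ (a c : F), Ok σ x (a • uv P) c ∧ ue h x (a • uv P) c ∈ H ∧ ue h x (a • uv P) c ≠ 1 := by
  obtain ⟨a, ha, ha0⟩ := (AddSubgroup.bot_or_exists_ne_zero _).resolve_left hA
  obtain ⟨c, hc, hm⟩ := (mem_rts h s).1 ha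
  refine ⟨a, c, hc, hm, fun e => ha0 ?_⟩
  have h0 : Ok σ x ((0 : F) • uv P) 0 := by rw [zero_smul]; exact Ok.zero s.xx (by simp)
  exact (ue_inj h s hc h0 (by rw [e, zero_smul, ue_one])).1

/-- The length of an orbit modulo the characteristic. -/
theorem orbit_mod (h : UFrob σ q) {p : ℕ} [Fact p.Prime] (hp : (p : F) = 0) {H : Subgroup (Cfsg.SU 3 F q)}
    (s : Split σ 1 x y P) {a c : F} (hc : Ok σ x (a • uv P) c) (hm : ue h x (a • uv P) c ∈ H)
    (hne : ue h x (a • uv P) c ≠ 1) (p₀ : ℙ F (Fin 3 → F)) (hp₀ : IsoP σ p₀) :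
    (ptX s ∈ MulAction.orbit H p₀ → Nat.card (MulAction.orbit H p₀) ≡ 1 [MOD p]) ∧
      (ptX s ∉ MulAction.orbit H p₀ → Nat.card (MulAction.orbit H p₀) ≡ 0 [MOD p]) := by
  classical
  obtain ⟨g, hg⟩ : ∃ g : H, g.1 = ue h x (a • uv P) c := ⟨⟨_, hm⟩, rfl⟩
  have hpg : g ^ p ^ 2 = 1 := Subtype.ext (by rw [SubmonoidClass.coe_pow, hg, ue_pow_char h s hc hp]; rfl)
  have hP : IsPGroup p (Subgroup.zpowers g) := by
    obtain ⟨k, -, hk⟩ := (Nat.dvd_prime_pow Fact.out).1 (orderOf_dvd_of_pow_eq_one hpg)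
    exact IsPGroup.of_card (by rw [Nat.card_zpowers, hk])
  have h1 := hP.card_modEq_card_fixedPoints (MulAction.orbit H p₀)
  have hfix : ∀ o : MulAction.orbit H p₀, o ∈ MulAction.fixedPoints (Subgroup.zpowers g) (MulAction.orbit H p₀) →
      o.1 = ptX s := by
    intro o ho
    have h2 : g.1 • o.1 = o.1 := congrArg Subtype.val (ho ⟨g, Subgroup.mem_zpowers g⟩)
    obtain ⟨k, hk⟩ := o.2
    have hiso : IsoP σ o.1 := hk ▸ smul_isoP h k.1 hp₀
    generalize o.1 = w at h2 hiso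
    induction w using Projectivization.ind with
    | h v hv =>
      by_contra hne'
      obtain ⟨r, hr⟩ := (smul_mk_eq_iff g.1 hv hv).1 h2
      rw [hg] at hr
      refine hne (ue_only_fix h s hc hv ((isoP_mk hv).1 hiso) (fun t e => hne' ((eq_ptX_iff s hv).2 ⟨t, e⟩)) hr)
  have hx : g.1 • ptX s = ptX s := by
    rw [smul_ptX_iff, hg, ue_x h s hc]
    exact ⟨1, by rw [Units.val_one, one_smul]⟩
  refine ⟨fun hmem => ?_, fun hnot => ?_⟩
  · have e : Nat.card (MulAction.fixedPoints (Subgroup.zpowers g) (MulAction.orbit H p₀)) = 1 := by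
      refine Nat.card_eq_one_iff_unique.2 ⟨⟨fun o o' => Subtype.ext (Subtype.ext ?_)⟩, ⟨⟨_, hmem⟩, ?_⟩⟩
      · exact (hfix _ o.2).trans (hfix _ o'.2).symm
      · rintro ⟨k, hk⟩
        refine Subtype.ext ?_
        show k.1 • ptX s = _
        exact (Subgroup.zpowers_le.2 (show g ∈ MulAction.stabilizer H (ptX s) from hx)) hk
    rwa [e] at h1
  · have e : Nat.card (MulAction.fixedPoints (Subgroup.zpowers g) (MulAction.orbit H p₀)) = 0 := by
      haveI : IsEmpty (MulAction.fixedPoints (Subgroup.zpowers g) (MulAction.orbit H p₀)) :=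
        ⟨fun o => hnot (hfix _ o.2 ▸ o.1.2)⟩
      exact Nat.card_of_isEmpty
    rwa [e] at h1

/-- Transitivity. -/
def Trans (σ : F →+* F) (H : Subgroup (Cfsg.SU 3 F q)) : Prop :=
  ∀ p p' : ℙ F (Fin 3 → F), IsoP σ p → IsoP σ p' → p' ∈ MulAction.orbit H p

theorem Trans.card_orbit (hF : Nat.card F = q ^ 2) (h : UFrob σ q) {H : Subgroup (Cfsg.SU 3 F q)} (ht : Trans σ H)
    (s : Split σ 1 x y P) : Nat.card (MulAction.orbit H (ptX s)) = q ^ 3 + 1 := by
  rw [← card_isoPts hF h (σ := σ)]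
  exact Nat.card_congr (Equiv.subtypeEquivRight fun p =>
    ⟨orbit_isoP h H s, fun hp => ht _ _ ((isoP_mk _).2 s.xx) hp⟩)

theorem trans_of_card (hF : Nat.card F = q ^ 2) (h : UFrob σ q) {H : Subgroup (Cfsg.SU 3 F q)}
    (s : Split σ 1 x y P) (hc : q ^ 3 + 1 ≤ Nat.card (MulAction.orbit H (ptX s))) : Trans σ H := by
  intro p p' hp hp'
  have hle : Nat.card (IsoPts σ) ≤ Nat.card (MulAction.orbit H (ptX s)) := card_isoPts hF h (σ := σ) ▸ hc
  let f : MulAction.orbit H (ptX s) → IsoPts σ := fun o => ⟨o.1, orbit_isoP h H s o.2⟩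
  have hf : Function.Injective f := fun a b e => Subtype.ext (congrArg Subtype.val e :)
  have hs := (hf.bijective_of_nat_card_le hle).2
  have key : ∀ w, IsoP σ w → w ∈ MulAction.orbit H (ptX s) := fun w hw => by
    obtain ⟨o, ho⟩ := hs ⟨w, hw⟩
    have : o.1 = w := congrArg Subtype.val ho
    exact this ▸ o.2
  rw [MulAction.orbit_eq_iff.2 (key p hp)]
  exact key p' hp'

/-- A trivial root set leaves at most `q ^ 2 - 1` elements fixing the point. -/
theorem dsz_le_of_bot (hF : Nat.card F = q ^ 2) (h : UFrob σ q) (hq : 3 ≤ q) {H : Subgroup (Cfsg.SU 3 F q)}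
    (s : Split σ 1 x y P) (hC : ctr h H x ≠ ⊤) (hA : rts h H x P = ⊥) :
    dsz h H x P ≤ q ^ 2 - 1 ∧ (q ^ 2 - 1 ≤ dsz h H x P → ctr h H x = ⊥ ∧ scalars H x = ⊤) := by
  have e : dsz h H x P = Nat.card (ctr h H x) * Nat.card (scalars H x) := by
    rw [dsz, hA, AddSubgroup.card_bot, one_mul]
  rw [e]
  have hT : Nat.card (scalars H x) ≤ q ^ 2 - 1 := by
    rw [← card_units_sq hF]; exact Nat.card_le_card_of_injective _ Subtype.val_injective
  rcases eq_or_ne (ctr h H x) ⊥ with h0 | h0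
  · rw [h0, AddSubgroup.card_bot, one_mul]
    refine ⟨hT, fun h1 => ⟨rfl, Subgroup.eq_top_of_card_eq _ ?_⟩⟩
    rw [card_units_sq hF]
    omega
  have h1 := norms_le hF h s hC h0
  have hc2 : 2 ≤ Nat.card (ctr h H x) := by
    have : Nat.card (ctr h H x) ≠ 1 := fun e => h0 (AddSubgroup.eq_bot_of_card_eq _ e)
    have := Nat.card_pos (α := ctr h H x)
    omega
  have h2 : Nat.card (ctr h H x) * Nat.card (norms σ H x) + 2 ≤ q := by
    rw [add_mul, one_mul, mul_comm] at h1; omega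
  have h3 : Nat.card (ctr h H x) * Nat.card (scalars H x) ≤ (q - 2) * (q + 1) := by
    refine (Nat.mul_le_mul_left _ (card_scalars_le hF h H x)).trans ?_
    rw [mul_left_comm, mul_comm (q - 2)]
    exact Nat.mul_le_mul_left _ (by omega)
  have h4 : (q - 2) * (q + 1) < q ^ 2 - 1 := by
    obtain ⟨j, rfl⟩ : ∃ j, q = j + 2 := ⟨q - 2, by omega⟩
    have : (j + 2) ^ 2 = j * (j + 3) + (j + 4) := by ring
    rw [this, Nat.add_sub_cancel, show j + 2 + 1 = j + 3 by omega]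
    omega
  exact ⟨by omega, fun h5 => absurd (h5.trans h3) (not_le.2 h4)⟩

/-- An index at most `q ^ 3` forces transitivity. -/
theorem reduce (hF : Nat.card F = q ^ 2) (h : UFrob σ q) (hq : 3 ≤ q) (H : Subgroup (Cfsg.SU 3 F q))
    (hH : H ≠ ⊤) (hN : H.index ≤ q ^ 3) :
    Trans σ H ∧ ∀ (x y : Fin 3 → F) (P : Matrix (Fin 3) (Fin 1) F), Split σ 1 x y P →
      ctr h H x ≠ ⊤ ∧ q ^ 2 - 1 ≤ dsz h H x P ∧
        (rts h H x P = ⊥ → ctr h H x = ⊥ ∧ scalars H x = ⊤) := by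
  classical
  have hC : ∀ v : Fin 3 → F, v ≠ 0 → uh σ v v = 0 → ctr h H v ≠ ⊤ := fun v hv0 hvv htop => by
    have := full_bound hF h hq H hH hv0 hvv fun c hc =>
      (mem_ctr h hvv (c := ⟨c, hc⟩)).1 (htop ▸ AddSubgroup.mem_top _)
    omega
  have hpos : 0 < q ^ 2 - 1 := Nat.sub_pos_of_lt (Nat.one_lt_pow two_ne_zero (by omega : 1 < q))
  have hbig : ∀ {x y : Fin 3 → F} {P : Matrix (Fin 3) (Fin 1) F} (s : Split σ 1 x y P),
      (q ^ 3 + 1) * (q ^ 2 - 1) ≤ Nat.card (MulAction.orbit H (ptX s)) * dsz h H x P := fun {x y P} s => by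
    refine Nat.le_of_mul_le_mul_left ?_ (Nat.pow_pos (n := 3) (by omega : 0 < q))
    calc q ^ 3 * ((q ^ 3 + 1) * (q ^ 2 - 1)) = (q ^ 3 + 1) * (q ^ 3 * (q ^ 2 - 1)) := by ring
      _ = H.index * (Nat.card (MulAction.orbit H (ptX s)) * dsz h H x P) := (index_mul hF h H s).symm
      _ ≤ _ := Nat.mul_le_mul_right _ hN
  have hd : ∀ (x y : Fin 3 → F) (P : Matrix (Fin 3) (Fin 1) F), Split σ 1 x y P → q ^ 2 - 1 ≤ dsz h H x P :=
    fun x y P s => Nat.le_of_mul_le_mul_left ((hbig s).trans (Nat.mul_le_mul_right _ (orbit_le hF h H s)))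
      (Nat.succ_pos _)
  refine ⟨?_, fun x y P s => ⟨hC x s.x_ne s.xx, hd x y P s, fun hA =>
    (dsz_le_of_bot hF h hq s (hC x s.x_ne s.xx) hA).2 (hd x y P s)⟩⟩
  by_cases hall : ∀ (x y : Fin 3 → F) (P : Matrix (Fin 3) (Fin 1) F), Split σ 1 x y P → rts h H x P ≠ ⊥
  · haveI := Fintype.ofFinite F
    obtain ⟨p, hchar⟩ := CharP.exists F
    haveI : Fact p.Prime := ⟨CharP.char_is_prime F p⟩
    have hp : (p : F) = 0 := CharP.cast_eq_zero F p
    intro a b ha hb
    by_contra hnot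
    have key : ∀ w, IsoP σ w → (w ∈ MulAction.orbit H a → Nat.card (MulAction.orbit H a) ≡ 1 [MOD p]) ∧
        (w ∉ MulAction.orbit H a → Nat.card (MulAction.orbit H a) ≡ 0 [MOD p]) := by
      intro w hw
      induction w using Projectivization.ind with
      | h v hv =>
        obtain ⟨y, P, s⟩ := exists_split (m := 1) h hv ((isoP_mk hv).1 hw)
        obtain ⟨r, c, hc, hm, hne⟩ := root_ne_one h s (hall v y P s)
        exact orbit_mod h hp s hc hm hne a ha
    have h2 : 1 ≡ 0 [MOD p] := ((key a ha).1 (MulAction.mem_orbit_self a)).symm.trans ((key b hb).2 hnot)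
    exact (Fact.out : p.Prime).not_dvd_one (Nat.modEq_zero_iff_dvd.1 h2)
  push Not at hall
  obtain ⟨x, y, P, s, hA⟩ := hall
  refine trans_of_card hF h s (Nat.le_of_mul_le_mul_right ?_ hpos)
  exact (hbig s).trans (Nat.mul_le_mul_left _ (dsz_le_of_bot hF h hq s (hC x s.x_ne s.xx) hA).1)

end CfsgLib.MinIdx.U3
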