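import Cfsg.Agent.Lib.MinIdx.UnTorus

/-!
# Isotropic points of the unitary plane and their stabilizers
-/

set_option autoImplicit false

namespace CfsgLib.MinIdx.U3

open Matrix CfsgLib.Classical CfsgLib.Classical.Unitary CfsgLib.MinIdx.Un
open scoped LinearAlgebra.Projectivization

variable {F : Type*} [Field F] {σ : F →+* F} {q : ℕ} {x y : Fin 3 → F} {P : Matrix (Fin 3) (Fin 1) F}

/-- The coordinate vector. -/
def one1 (F : Type*) [Field F] : Fin 1 → F := fun _ => 1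

/-- The unit vector of the complement. -/
def uv (P : Matrix (Fin 3) (Fin 1) F) : Fin 3 → F := P *ᵥ one1 F

theorem fin_one_eq (a : Fin 1 → F) : a = a 0 • one1 F := by funext i; fin_cases i; simp [one1]

theorem mulVec_uv (P : Matrix (Fin 3) (Fin 1) F) (a : Fin 1 → F) : P *ᵥ a = a 0 • uv P := by
  conv_lhs => rw [fin_one_eq a]
  rw [mulVec_smul, uv]

theorem uh_one1 (σ : F →+* F) : uh σ (one1 F) (one1 F) = 1 := by simp [uh, dotProduct, one1]

theorem uv_self (h : UFrob σ q) (s : Split σ 1 x y P) : uh σ (uv P) (uv P) = 1 := by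
  rw [uv, s.pp h, uh_one1]

theorem uv_x (s : Split σ 1 x y P) : uh σ (uv P) x = 0 := s.px _

theorem uv_y (s : Split σ 1 x y P) : uh σ (uv P) y = 0 := s.py _

theorem dec3 (h : UFrob σ q) (s : Split σ 1 x y P) (v : Fin 3 → F) :
    uh σ v y • x + uh σ v x • y + uh σ v (uv P) • uv P = v := by
  have h1 := s.dec v
  rwa [mulVec_uv P ((P.map σ)ᵀ *ᵥ v), show ((P.map σ)ᵀ *ᵥ v) 0 = uh σ v (uv P) by
    rw [uv, uh_frame_right h]; simp [uh, dotProduct, one1]] at h1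

theorem ok_iff (h : UFrob σ q) (s : Split σ 1 x y P) {a c : F} :
    Ok σ x (a • uv P) c ↔ c + σ c + a * σ a = 0 := by
  constructor
  · intro he
    have := he.2.2
    rwa [uh_smul_left, uh_smul_right, uv_self h s, mul_one] at this
  · intro hc
    refine ⟨s.xx, by rw [uh_smul_left, uv_x s, mul_zero], ?_⟩
    rwa [uh_smul_left, uh_smul_right, uv_self h s, mul_one]

theorem ue_y (h : UFrob σ q) (s : Split σ 1 x y P) {a c : F} (he : Ok σ x (a • uv P) c) :
    (ue h x (a • uv P) c).1.1 *ᵥ y = y + a • uv P + c • x := by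
  rw [ue_apply h he, s.yx h, uh_smul_right, h.swap_zero (uv_y s)]
  simp

theorem ue_x (h : UFrob σ q) (s : Split σ 1 x y P) {a c : F} (he : Ok σ x (a • uv P) c) :
    (ue h x (a • uv P) c).1.1 *ᵥ x = x := by
  rw [ue_apply h he, s.xx, uh_smul_right, h.swap_zero (uv_x s)]
  simp

theorem coords_inj (h : UFrob σ q) (s : Split σ 1 x y P) {a b c d : F}
    (e : y + a • uv P + c • x = y + b • uv P + d • x) : a = b ∧ c = d := by
  have h1 := congrArg (fun w => uh σ w (uv P)) e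
  have h2 := congrArg (fun w => uh σ w y) e
  simp only [uh_add_left, uh_smul_left, uv_self h s, h.swap_zero (uv_x s), h.swap_zero (uv_y s), mul_zero,
    add_zero, zero_add, mul_one] at h1
  simp only [uh_add_left, uh_smul_left, uv_y s, s.yy, s.xy, mul_zero, add_zero, zero_add, mul_one] at h2
  exact ⟨h1, h2⟩

theorem ue_inj (h : UFrob σ q) (s : Split σ 1 x y P) {a b c d : F} (he : Ok σ x (a • uv P) c)
    (he' : Ok σ x (b • uv P) d) (e : ue h x (a • uv P) c = ue h x (b • uv P) d) : a = b ∧ c = d :=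
  coords_inj h s (by rw [← ue_y h s he, ← ue_y h s he', e])

/-- An element fixing both vectors of a pair is trivial. -/
theorem fix_pair (h : UFrob σ q) (s : Split σ 1 x y P) {g : Cfsg.SU 3 F q} (hx : g.1.1 *ᵥ x = x)
    (hy : g.1.1 *ᵥ y = y) : g = 1 := by
  have hg : g ∈ Mst σ q x y := ⟨⟨1, one_ne_zero, by rw [hx, one_smul]⟩, 1, one_ne_zero, by rw [hy, one_smul]⟩
  obtain ⟨M, rfl⟩ := exists_ext h s hg (by rw [scal, hx, s.xy])
  have hM : M = 1 := by
    refine su_ext fun v => ?_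
    have h1 := M.1.2
    rw [det_fin_one] at h1
    funext i
    fin_cases i
    simp [mulVec, dotProduct, h1]
  rw [hM, map_one]

/-- The elements fixing an isotropic vector are the root elements at it. -/
theorem fix_x (h : UFrob σ q) (s : Split σ 1 x y P) {g : Cfsg.SU 3 F q} (hx : g.1.1 *ᵥ x = x) :
    ∃ (a c : F), Ok σ x (a • uv P) c ∧ g = ue h x (a • uv P) c := by
  obtain ⟨w, hw⟩ : ∃ w, w = g.1.1 *ᵥ y := ⟨_, rfl⟩
  have hwx : uh σ w x = 1 := by
    have h1 := su_uh h g y x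
    rw [hx, ← hw, s.yx h] at h1
    exact h1
  have hd := dec3 h s w
  rw [hwx, one_smul] at hd
  have hww : uh σ w w = 0 := by rw [hw, su_uh h, s.yy]
  obtain ⟨a, ha⟩ : ∃ a, a = uh σ w (uv P) := ⟨_, rfl⟩
  obtain ⟨c, hc⟩ : ∃ c, c = uh σ w y := ⟨_, rfl⟩
  rw [← ha, ← hc] at hd
  have hok : Ok σ x (a • uv P) c := by
    rw [ok_iff h s]
    rw [← hd] at hww
    simp only [uh_add_left, uh_add_right, uh_smul_left, uh_smul_right, uv_self h s, uv_x s, uv_y s, s.xx, s.yy,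
      s.xy, s.yx h, h.swap_zero (uv_x s), h.swap_zero (uv_y s)] at hww
    linear_combination hww
  refine ⟨a, c, hok, ?_⟩
  have h1 := fix_pair h s (g := (ue h x (a • uv P) c)⁻¹ * g) (by
    rw [su_mul_mulVec, hx]; exact inv_move (ue_x h s hok)) (by
    rw [su_mul_mulVec, ← hw]
    refine inv_move ?_
    rw [ue_y h s hok]
    linear_combination (norm := module) hd)
  exact (inv_mul_eq_one.1 h1).symm

/-- The multiplier of a torus element on the complement. -/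
def mu (σ : F →+* F) (α : F) : F := σ α * (σ α / α)

theorem exists_torus (h : UFrob σ q) (s : Split σ 1 x y P) {α : F} (hα : α ≠ 0) :
    ∃ k : Cfsg.SU 3 F q, k.1.1 *ᵥ x = α • x ∧ k.1.1 *ᵥ y = (σ α)⁻¹ • y ∧
      k.1.1 *ᵥ uv P = (σ α / α) • uv P := by
  obtain ⟨k, hk, hks, hky, hkp⟩ := exists_tor h s (uh_one1 σ) hα
  refine ⟨k, hks ▸ (Mst_x s hk).2, hky, ?_⟩
  rw [uv, hkp, uh_one1, mulVec_add, mulVec_smul, mul_one, sub_smul, one_smul]
  abel

theorem conj_torus (h : UFrob σ q) (s : Split σ 1 x y P) {α : F} {k : Cfsg.SU 3 F q}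
    (hkx : k.1.1 *ᵥ x = α • x) (hku : k.1.1 *ᵥ uv P = (σ α / α) • uv P) (hα : α ≠ 0) {a c : F}
    (he : Ok σ x (a • uv P) c) :
    Ok σ x ((mu σ α * a) • uv P) (α * σ α * c) ∧
      k * ue h x (a • uv P) c * k⁻¹ = ue h x ((mu σ α * a) • uv P) (α * σ α * c) := by
  have e2 := he.map h k
  rw [hkx, mulVec_smul, hku, smul_smul] at e2
  have e3 : Ok σ x ((a * (σ α / α)) • uv P) c :=
    ⟨s.xx, by rw [uh_smul_left, uv_x s, mul_zero], e2.2.2⟩
  rw [show (mu σ α * a) • uv P = σ α • (a * (σ α / α)) • uv P by rw [smul_smul, mu]; ring_nf]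
  refine ⟨Ok.smul h e3.1 e3.2.1 e3.2.2, ?_⟩
  rw [ue_conj, hkx, mulVec_smul, hku, smul_smul, ue_smul h e3]

/-- Coordinates of a point other than `x`. -/
theorem point_coords (h : UFrob σ q) (s : Split σ 1 x y P) {z : Fin 3 → F} (hz0 : z ≠ 0) (hzz : uh σ z z = 0)
    (hne : ∀ r : F, z ≠ r • x) :
    ∃ β a c : F, β ≠ 0 ∧ Ok σ x (a • uv P) c ∧ z = β • (y + a • uv P + c • x) := by
  have hd := dec3 h s z
  obtain ⟨β, hβ⟩ : ∃ β, β = uh σ z x := ⟨_, rfl⟩
  obtain ⟨γ, hγ⟩ : ∃ γ, γ = uh σ z (uv P) := ⟨_, rfl⟩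
  obtain ⟨e, he⟩ : ∃ e, e = uh σ z y := ⟨_, rfl⟩
  rw [← hβ, ← hγ, ← he] at hd
  have hN : β * σ e + e * σ β + γ * σ γ = 0 := by
    rw [← hd] at hzz
    simp only [uh_add_left, uh_add_right, uh_smul_left, uh_smul_right, uv_self h s, uv_x s, uv_y s, s.xx, s.yy,
      s.xy, s.yx h, h.swap_zero (uv_x s), h.swap_zero (uv_y s)] at hzz
    linear_combination hzz
  have hβ0 : β ≠ 0 := fun h0 => by
    rw [h0, map_zero] at hN
    have hγ0 : γ = 0 := by
      by_contra hne0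
      exact mul_ne_zero hne0 (show σ γ ≠ 0 by simpa using hne0) (by linear_combination hN)
    rw [h0, hγ0] at hd
    exact hne e (by rw [← hd]; simp)
  have hsβ : σ β ≠ 0 := by simpa using hβ0
  refine ⟨β, γ / β, e / β, hβ0, (ok_iff h s).2 ?_, ?_⟩
  · rw [map_div₀, map_div₀]
    field_simp
    linear_combination hN
  · rw [← hd]
    match_scalars <;> field_simp

/-- A root element other than `1` fixes no second point. -/
theorem ue_only_fix (h : UFrob σ q) (s : Split σ 1 x y P) {a c : F} (he : Ok σ x (a • uv P) c) {z : Fin 3 → F}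
    (hz0 : z ≠ 0) (hzz : uh σ z z = 0) (hne : ∀ r : F, z ≠ r • x) {lam : F}
    (hfix : (ue h x (a • uv P) c).1.1 *ᵥ z = lam • z) : ue h x (a • uv P) c = 1 := by
  obtain ⟨β, b, d, hβ, hok, rfl⟩ := point_coords h s hz0 hzz hne
  rw [← ue_y h s hok, mulVec_smul, smul_smul, mul_comm lam, ← smul_smul] at hfix
  have h1 := smul_right_injective _ hβ hfix
  have hlam : lam = 1 := by
    have h2 := congrArg (fun w => uh σ w x) h1
    have key : ∀ w, uh σ ((ue h x (a • uv P) c).1.1 *ᵥ w) x = uh σ w x := fun w => by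
      rw [← su_uh h (ue h x (a • uv P) c) w x, ue_x h s he]
    simp only [uh_smul_left, key] at h2
    have e : uh σ ((ue h x (b • uv P) d).1.1 *ᵥ y) x = 1 := by
      rw [ue_y h s hok]; simp [uh_add_left, uh_smul_left, s.yx h, uv_x s, s.xx]
    rw [e, mul_one] at h2
    exact h2.symm
  rw [hlam, one_smul] at h1
  obtain ⟨g, hg⟩ : ∃ g, g = (ue h x (b • uv P) d)⁻¹ * ue h x (a • uv P) c * ue h x (b • uv P) d := ⟨_, rfl⟩
  have h3 : g = 1 := fix_pair h s (by
    rw [hg, su_mul_mulVec, su_mul_mulVec, ue_x h s hok, ue_x h s he]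
    exact inv_move (ue_x h s hok)) (by
    rw [hg, su_mul_mulVec, su_mul_mulVec, h1, su_inv_mulVec])
  rw [hg] at h3
  calc ue h x (a • uv P) c = ue h x (b • uv P) d *
        ((ue h x (b • uv P) d)⁻¹ * ue h x (a • uv P) c * ue h x (b • uv P) d) * (ue h x (b • uv P) d)⁻¹ := by group
    _ = 1 := by rw [h3]; group

variable (σ) in
/-- Isotropic points. -/
def IsoP (p : ℙ F (Fin 3 → F)) : Prop := uh σ p.rep p.rep = 0

theorem rep_smul (v : Fin 3 → F) (hv : v ≠ 0) :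
    ∃ r : F, r ≠ 0 ∧ (Projectivization.mk F v hv).rep = r • v := by
  obtain ⟨a, ha⟩ := Projectivization.exists_smul_eq_mk_rep F v hv
  exact ⟨a, a.ne_zero, ha.symm⟩

theorem isoP_mk {v : Fin 3 → F} (hv : v ≠ 0) : IsoP σ (Projectivization.mk F v hv) ↔ uh σ v v = 0 := by
  obtain ⟨r, hr, e⟩ := rep_smul v hv
  rw [IsoP, e, uh_smul_left, uh_smul_right]
  simp [hr]

theorem smul_mk (g : Cfsg.SU 3 F q) {v : Fin 3 → F} (hv : v ≠ 0) :
    ∃ hw, g • Projectivization.mk F v hv = Projectivization.mk F (g.1.1 *ᵥ v) hw := ⟨_, rfl⟩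

theorem smul_mk_eq_iff (g : Cfsg.SU 3 F q) {v w : Fin 3 → F} (hv : v ≠ 0) (hw : w ≠ 0) :
    g • Projectivization.mk F v hv = Projectivization.mk F w hw ↔ ∃ r : F, g.1.1 *ᵥ v = r • w := by
  obtain ⟨h0, e⟩ := smul_mk g hv
  rw [e, Projectivization.mk_eq_mk_iff']
  exact ⟨fun ⟨r, hr⟩ => ⟨r, hr.symm⟩, fun ⟨r, hr⟩ => ⟨r, hr.symm⟩⟩

theorem smul_isoP (h : UFrob σ q) (g : Cfsg.SU 3 F q) {p : ℙ F (Fin 3 → F)} (hp : IsoP σ p) : IsoP σ (g • p) := by
  induction p using Projectivization.ind with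
  | h v hv =>
    obtain ⟨h0, e⟩ := smul_mk g hv
    rw [e, isoP_mk, su_uh h]
    exact (isoP_mk hv).1 hp

/-- The point of `x`. -/
noncomputable def ptX (s : Split σ 1 x y P) : ℙ F (Fin 3 → F) := Projectivization.mk F x s.x_ne

theorem eq_ptX_iff (s : Split σ 1 x y P) {v : Fin 3 → F} (hv : v ≠ 0) :
    Projectivization.mk F v hv = ptX s ↔ ∃ r : F, v = r • x := by
  rw [ptX, Projectivization.mk_eq_mk_iff']
  exact ⟨fun ⟨r, hr⟩ => ⟨r, hr.symm⟩, fun ⟨r, hr⟩ => ⟨r, hr.symm⟩⟩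

/-- The stabilizer of the point of `x` in `H`. -/
def stX (H : Subgroup (Cfsg.SU 3 F q)) (x : Fin 3 → F) : Subgroup (Cfsg.SU 3 F q) where
  carrier := {g | g ∈ H ∧ ∃ α : Fˣ, g.1.1 *ᵥ x = (α : F) • x}
  one_mem' := ⟨H.one_mem, 1, by rw [su_one_mulVec, Units.val_one, one_smul]⟩
  mul_mem' := by
    rintro a b ⟨ha, α, hax⟩ ⟨hb, β, hbx⟩
    exact ⟨H.mul_mem ha hb, α * β, by rw [su_mul_mulVec, hbx, mulVec_smul, hax, smul_smul, Units.val_mul, mul_comm]⟩
  inv_mem' := by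
    rintro a ⟨ha, α, hax⟩
    exact ⟨H.inv_mem ha, α⁻¹, by
      rw [Units.val_inv_eq_inv_val, eq_inv_smul_iff₀ α.ne_zero, ← mulVec_smul, ← hax, su_inv_mulVec]⟩

theorem scalar_unique (hx : x ≠ 0) {α β : F} (e : α • x = β • x) : α = β := smul_left_injective F hx e

theorem smul_ptX_iff (s : Split σ 1 x y P) (g : Cfsg.SU 3 F q) :
    g • ptX s = ptX s ↔ ∃ α : Fˣ, g.1.1 *ᵥ x = (α : F) • x := by
  rw [ptX, smul_mk_eq_iff g s.x_ne s.x_ne]
  refine ⟨fun ⟨r, hr⟩ => ⟨Units.mk0 r fun h0 => s.x_ne ?_, hr⟩, fun ⟨α, hα⟩ => ⟨α, hα⟩⟩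
  rw [← su_inv_mulVec g x, hr, h0, zero_smul, mulVec_zero]

/-- The scalars by which the point stabilizer acts on `x`. -/
def scalars (H : Subgroup (Cfsg.SU 3 F q)) (x : Fin 3 → F) : Subgroup Fˣ where
  carrier := {α | ∃ g ∈ H, g.1.1 *ᵥ x = (α : F) • x}
  one_mem' := ⟨1, H.one_mem, by rw [su_one_mulVec, Units.val_one, one_smul]⟩
  mul_mem' := by
    rintro α β ⟨a, ha, hax⟩ ⟨b, hb, hbx⟩
    exact ⟨a * b, H.mul_mem ha hb, by rw [su_mul_mulVec, hbx, mulVec_smul, hax, smul_smul, Units.val_mul, mul_comm]⟩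
  inv_mem' := by
    rintro α ⟨a, ha, hax⟩
    exact ⟨a⁻¹, H.inv_mem ha, by
      rw [Units.val_inv_eq_inv_val, eq_inv_smul_iff₀ α.ne_zero, ← mulVec_smul, ← hax, su_inv_mulVec]⟩

/-- The root set in the coordinate of the complement. -/
noncomputable def rts (h : UFrob σ q) (H : Subgroup (Cfsg.SU 3 F q)) (x : Fin 3 → F)
    (P : Matrix (Fin 3) (Fin 1) F) : AddSubgroup F :=
  (rootSet h H x).comap (AddMonoidHom.mk' (fun a : F => a • uv P) fun a b => add_smul a b _)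

theorem mem_rts (h : UFrob σ q) {H : Subgroup (Cfsg.SU 3 F q)} (s : Split σ 1 x y P) {a : F} :
    a ∈ rts h H x P ↔ ∃ c, Ok σ x (a • uv P) c ∧ ue h x (a • uv P) c ∈ H :=
  mem_rootSet h s.xx

theorem card_rts_eq (h : UFrob σ q) {H : Subgroup (Cfsg.SU 3 F q)} (s : Split σ 1 x y P) :
    Nat.card (rts h H x P) = Nat.card (aSet h H s) :=
  Nat.card_congr
    { toFun := fun a => ⟨fun _ => a.1, by
        show P *ᵥ (fun _ => a.1) ∈ rootSet h H x
        rw [mulVec_uv]; exact a.2⟩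
      invFun := fun a => ⟨a.1 0, by
        show a.1 0 • uv P ∈ rootSet h H x
        rw [← mulVec_uv]; exact a.2⟩
      left_inv := fun a => rfl
      right_inv := fun a => Subtype.ext (funext fun i => by fin_cases i; rfl) }

theorem rts_card_le [Finite F] (hF : Nat.card F = q ^ 2) (h : UFrob σ q) {H : Subgroup (Cfsg.SU 3 F q)}
    (s : Split σ 1 x y P) (hc : ctr h H x ≠ ⊤) : Nat.card (rts h H x P) ≤ q := by
  rw [card_rts_eq h s]
  refine Nat.mul_self_le_mul_self_iff.1 ((card_aSet_sq hF h s hc).trans (le_of_eq ?_))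
  rw [mul_one, sq]

/-- The stabilizer of a point: its root part, centre and scalars. -/
theorem card_stX [Finite F] (h : UFrob σ q) (H : Subgroup (Cfsg.SU 3 F q)) (s : Split σ 1 x y P) :
    Nat.card (stX H x) = Nat.card (rts h H x P) * Nat.card (ctr h H x) * Nat.card (scalars H x) := by
  classical
  choose cf hcf hcfm using fun a : rts h H x P => (mem_rts h s).1 a.2
  choose g hg hgx using fun α : scalars H x => α.2
  rw [← Nat.card_prod, ← Nat.card_prod]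
  have hcen : ∀ γ : ctr h H x, Ok σ x ((0 : F) • uv P) γ.1.1 ∧ ue h x ((0 : F) • uv P) γ.1.1 ∈ H := fun γ => by
    rw [zero_smul]; exact ⟨Ok.zero s.xx γ.1.2, (mem_ctr h s.xx).1 γ.2⟩
  refine (Nat.card_eq_of_bijective (fun p : (rts h H x P × ctr h H x) × scalars H x =>
    (⟨g p.2 * (ue h x (p.1.1.1 • uv P) (cf p.1.1) * ue h x ((0 : F) • uv P) p.1.2.1.1), ?_, p.2.1, ?_⟩ : stX H x))
    ⟨?_, ?_⟩).symm
  · exact H.mul_mem (hg _) (H.mul_mem (hcfm _) (hcen _).2)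
  · rw [su_mul_mulVec, su_mul_mulVec, ue_x h s (hcen _).1, ue_x h s (hcf _), hgx]
  · rintro ⟨⟨a, γ⟩, α⟩ ⟨⟨b, δ⟩, β⟩ e
    have e' : g α * (ue h x (a.1 • uv P) (cf a) * ue h x ((0 : F) • uv P) γ.1.1) =
        g β * (ue h x (b.1 • uv P) (cf b) * ue h x ((0 : F) • uv P) δ.1.1) := congrArg Subtype.val e
    have hαβ : α = β := by
      have h1 := congrArg (fun k : Cfsg.SU 3 F q => k.1.1 *ᵥ x) e'
      simp only [su_mul_mulVec, ue_x h s (hcen _).1, ue_x h s (hcf _), hgx] at h1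
      exact Subtype.ext (Units.ext (scalar_unique s.x_ne h1))
    subst hαβ
    have h1 := mul_left_cancel e'
    rw [(hcf a).mul h (hcen γ).1, (hcf b).mul h (hcen δ).1, ← add_smul, ← add_smul, add_zero, add_zero, zero_smul,
      uh_zero_left, sub_zero, uh_zero_left, sub_zero] at h1
    have o1 := (hcf a).add h (hcen γ).1
    have o2 := (hcf b).add h (hcen δ).1
    rw [← add_smul, add_zero, zero_smul, uh_zero_left, sub_zero] at o1 o2
    obtain ⟨hab, hcd⟩ := ue_inj h s o1 o2 h1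
    obtain rfl : a = b := Subtype.ext hab
    exact Prod.ext (Prod.ext rfl (Subtype.ext (Subtype.ext (add_left_cancel hcd)))) rfl
  · rintro ⟨k, hk, α, hkx⟩
    obtain ⟨α', rfl⟩ : ∃ α' : scalars H x, α'.1 = α := ⟨⟨α, k, hk, hkx⟩, rfl⟩
    have hfix : ((g α')⁻¹ * k).1.1 *ᵥ x = x := by
      rw [su_mul_mulVec, hkx]; exact inv_move (hgx α')
    obtain ⟨a, c, hc, hv⟩ := fix_x h s hfix
    have hvm : ue h x (a • uv P) c ∈ H := hv ▸ H.mul_mem (H.inv_mem (hg _)) hk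
    have ha : a ∈ rts h H x P := (mem_rts h s).2 ⟨c, hc, hvm⟩
    have h0 : (c - cf ⟨a, ha⟩) + σ (c - cf ⟨a, ha⟩) = 0 := by
      rw [map_sub]
      linear_combination (ok_iff h s).1 hc - (ok_iff h s).1 (hcf ⟨a, ha⟩)
    have e : ue h x (a • uv P) (cf ⟨a, ha⟩) * ue h x ((0 : F) • uv P) (c - cf ⟨a, ha⟩) = ue h x (a • uv P) c := by
      rw [(hcf ⟨a, ha⟩).mul h (by rw [zero_smul]; exact Ok.zero s.xx h0), ← add_smul, add_zero, zero_smul,
        uh_zero_left, sub_zero, add_sub_cancel]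
    have hγ : (⟨c - cf ⟨a, ha⟩, h0⟩ : Sk σ) ∈ ctr h H x := by
      rw [mem_ctr h s.xx]
      rw [← e, zero_smul] at hvm
      exact (H.mul_mem_cancel_left (hcfm ⟨a, ha⟩)).1 hvm
    exact ⟨((⟨a, ha⟩, ⟨_, hγ⟩), α'), Subtype.ext (show g α' * _ = k by rw [e, ← hv, mul_inv_cancel_left])⟩

end CfsgLib.MinIdx.U3
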