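import Cfsg.Agent.Lib.MinIdx.U3.Count

/-!
# A full transvection group at one point makes the index large
-/

set_option autoImplicit false

namespace CfsgLib.MinIdx.U3

open Matrix CfsgLib.Classical CfsgLib.Classical.Unitary CfsgLib.MinIdx.Un
open scoped LinearAlgebra.Projectivization

variable {F : Type*} [Field F] {σ : F →+* F} {q : ℕ} {x y : Fin 3 → F} {P : Matrix (Fin 3) (Fin 1) F}

/-- All transvections at `v` lie in `H`. -/
def Full (h : UFrob σ q) (H : Subgroup (Cfsg.SU 3 F q)) (v : Fin 3 → F) : Prop :=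
  ∀ c : F, c + σ c = 0 → ue h v 0 c ∈ H

theorem Full.smul (h : UFrob σ q) {H : Subgroup (Cfsg.SU 3 F q)} {v : Fin 3 → F} (hv : uh σ v v = 0)
    (hf : Full h H v) (r : F) : Full h H (r • v) := fun c hc => by
  rw [ue_smul h (Ok.zero hv hc), smul_zero]
  refine hf _ ?_
  rw [map_mul, map_mul, h.invol]
  linear_combination (r * σ r) * hc

theorem Full.map (h : UFrob σ q) {H : Subgroup (Cfsg.SU 3 F q)} {v : Fin 3 → F} (hf : Full h H v)
    {g : Cfsg.SU 3 F q} (hg : g ∈ H) : Full h H (g.1.1 *ᵥ v) := fun c hc => by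
  have := H.mul_mem (H.mul_mem hg (hf c hc)) (H.inv_mem hg)
  rwa [ue_conj, mulVec_zero] at this

theorem Full.shift (h : UFrob σ q) {H : Subgroup (Cfsg.SU 3 F q)} {v w : Fin 3 → F} (hv : uh σ v v = 0)
    (hf : Full h H v) (hw : Full h H w) {γ : F} (hγ : γ + σ γ = 0) : Full h H (w + (γ * uh σ w v) • v) := by
  have := hw.map h (hf γ hγ)
  rwa [ue_apply h (Ok.zero hv hγ), uh_zero_right, sub_zero, smul_zero, add_zero] at this

variable [Finite F]

/-- Full groups at three independent points give everything. -/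
theorem all_full (hF : Nat.card F = q ^ 2) (h : UFrob σ q) (s : Split σ 1 x y P) {H : Subgroup (Cfsg.SU 3 F q)}
    (hx : Full h H x) (hy : Full h H y) {a₀ c₀ : F} (hok : c₀ + σ c₀ + a₀ * σ a₀ = 0) (ha₀ : a₀ ≠ 0)
    (hp : Full h H (y + a₀ • uv P + c₀ • x)) {v : Fin 3 → F} (hv : uh σ v v = 0) : Full h H v := by
  classical
  let R : F → Prop := fun a => ∀ c, c + σ c + a * σ a = 0 → Full h H (y + a • uv P + c • x)
  have hcl : ∀ a c, c + σ c + a * σ a = 0 → Full h H (y + a • uv P + c • x) → R a := fun a c hc hf d hd => by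
    have h1 := hx.shift h s.xx hf (γ := d - c) (by rw [map_sub]; linear_combination hd - hc)
    simp only [uh_add_left, uh_smul_left, uv_x s, s.yx h, s.xx, mul_zero, add_zero, mul_one] at h1
    rwa [add_assoc, ← add_smul, add_sub_cancel] at h1
  have hR0 : R 0 := hcl 0 0 (by simp) (by simpa using hy)
  have hstep : ∀ a, R a → a ≠ 0 → ∀ μ : F, σ μ ≠ μ → R (a * μ) := by
    intro a ha ha0 μ hμ
    have hμ0 : μ ≠ 0 := fun e => hμ (by rw [e, map_zero])
    obtain ⟨z, hz⟩ : ∃ z, z = μ⁻¹ - 1 := ⟨_, rfl⟩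
    have hzz : σ z ≠ z := fun e => hμ (inv_injective (by
      rw [hz, map_sub, map_one, sub_left_inj, map_inv₀] at e
      exact e))
    have hN : a * σ a ≠ 0 := mul_ne_zero ha0 (by simpa using ha0)
    obtain ⟨γ, hγdef⟩ : ∃ γ, γ = (σ z - z) / (a * σ a) := ⟨_, rfl⟩
    have hNσ : σ (a * σ a) = a * σ a := by rw [map_mul, h.invol, mul_comm]
    have hγ : γ + σ γ = 0 := by rw [hγdef, map_div₀, map_sub, h.invol, hNσ]; ring
    have hγ0 : γ ≠ 0 := by rw [hγdef]; exact div_ne_zero (sub_ne_zero.2 hzz) hN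
    have hc : z / γ + σ (z / γ) + a * σ a = 0 := by
      rw [map_div₀, show σ γ = -γ by linear_combination hγ, div_neg, ← sub_eq_add_neg, ← sub_div, hγdef, div_div_eq_mul_div,
        show (z - σ z) * (a * σ a) / (σ z - z) = -(a * σ a) by
          rw [div_eq_iff (sub_ne_zero.2 hzz)]; ring]
      ring
    have h1 := hy.shift h s.yy (ha _ hc) hγ
    simp only [uh_add_left, uh_smul_left, uv_y s, s.yy, s.xy, mul_zero, zero_add, mul_one] at h1
    rw [mul_div_cancel₀ _ hγ0] at h1
    have hiso : uh σ (y + a • uv P + (z / γ) • x + z • y) (y + a • uv P + (z / γ) • x + z • y) = 0 := by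
      have e : y + a • uv P + (z / γ) • x + z • y = (ue h y 0 γ).1.1 *ᵥ (y + a • uv P + (z / γ) • x) := by
        rw [ue_apply h (Ok.zero s.yy hγ), uh_zero_right, sub_zero, smul_zero, add_zero]
        simp only [uh_add_left, uh_smul_left, uv_y s, s.yy, s.xy, mul_zero, zero_add, mul_one]
        rw [mul_div_cancel₀ _ hγ0]
      rw [e, su_uh h]
      exact (uh_point h s hc).2.1
    have h2 := h1.smul h hiso μ
    rw [show μ • (y + a • uv P + (z / γ) • x + z • y) = y + (a * μ) • uv P + (μ * (z / γ)) • x by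
      rw [hz]; match_scalars <;> field_simp; ring] at h2
    refine hcl (a * μ) (μ * (z / γ)) ?_ h2
    have hiso2 : uh σ (μ • (y + a • uv P + (z / γ) • x + z • y)) (μ • (y + a • uv P + (z / γ) • x + z • y)) = 0 := by
      rw [uh_smul_left, uh_smul_right, hiso]; ring
    rw [show μ • (y + a • uv P + (z / γ) • x + z • y) = y + (a * μ) • uv P + (μ * (z / γ)) • x by
      rw [hz]; match_scalars <;> field_simp; ring] at hiso2
    simp only [uh_add_left, uh_add_right, uh_smul_left, uh_smul_right, uv_self h s, uv_x s, uv_y s, s.xx, s.yy, s.xy,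
      s.yx h, h.swap_zero (uv_x s), h.swap_zero (uv_y s)] at hiso2
    linear_combination hiso2
  obtain ⟨μ, hμ⟩ : ∃ μ : F, σ μ ≠ μ := by
    by_contra hall
    push Not at hall
    exact h.ne (RingHom.ext fun r => hall r)
  have hR : ∀ a, R a := fun a => by
    rcases eq_or_ne a 0 with rfl | ha
    · exact hR0
    obtain ⟨ν, rfl⟩ : ∃ ν, a = a₀ * ν := ⟨a / a₀, by field_simp⟩
    by_cases hν : σ ν = ν
    · have hν0 : ν ≠ 0 := right_ne_zero_of_mul ha
      have hμ0 : μ ≠ 0 := fun e => hμ (by rw [e, map_zero])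
      have := hstep _ (hstep _ (hcl _ _ hok hp) ha₀ μ hμ) (mul_ne_zero ha₀ hμ0) (ν / μ) fun e => hμ (by
        rw [map_div₀, hν, div_eq_div_iff (by simpa using hμ0) hμ0] at e
        exact (mul_left_cancel₀ hν0 e).symm)
      rwa [mul_assoc, mul_div_cancel₀ _ hμ0] at this
    · exact hstep _ (hcl _ _ hok hp) ha₀ ν hν
  rcases eq_or_ne v 0 with rfl | hv0
  · intro c hc
    rw [show ue h 0 0 c = 1 from su_ext fun w => by simp [ue_apply h (Ok.zero (uh_zero_left _) hc), uh_zero_right]]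
    exact H.one_mem
  by_cases hl : ∃ r : F, v = r • x
  · obtain ⟨r, rfl⟩ := hl
    exact hx.smul h s.xx r
  push Not at hl
  obtain ⟨β, a, c, -, hac, rfl⟩ := point_coords h s hv0 hv hl
  exact (hR a c ((ok_iff h s).1 hac)).smul h (uh_point h s ((ok_iff h s).1 hac)).2.1 β

/-- A full transvection group at some point. -/
theorem full_bound (hF : Nat.card F = q ^ 2) (h : UFrob σ q) (hq3 : 3 ≤ q) (H : Subgroup (Cfsg.SU 3 F q)) (hH : H ≠ ⊤)
    {x : Fin 3 → F} (hx0 : x ≠ 0) (hxx : uh σ x x = 0) (hx : Full h H x) : q ^ 3 + 1 ≤ H.index := by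
  classical
  have hq := two_le_q hF
  by_cases hone : ∀ v, v ≠ 0 → uh σ v v = 0 → Full h H v → ∃ r : F, v = r • x
  · obtain ⟨y, P, s⟩ := exists_split (m := 1) h hx0 hxx
    have horb : Nat.card (MulAction.orbit H (ptX s)) ≤ 1 := by
      refine Finite.card_le_one_iff_subsingleton.2 ⟨?_⟩
      have key : ∀ p : MulAction.orbit H (ptX s), p.1 = ptX s := by
        rintro ⟨_, g, rfl⟩
        show g.1 • ptX s = _
        rw [ptX, smul_mk_eq_iff g.1 s.x_ne s.x_ne]
        refine hone _ (fun e => s.x_ne ?_) (by rw [su_uh h, s.xx]) (hx.map h g.2)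
        rw [← su_inv_mulVec g.1 x, e, mulVec_zero]
      exact fun a b => Subtype.ext ((key a).trans (key b).symm)
    have hd : dsz h H x P ≤ q ^ 3 * (q ^ 2 - 1) := by
      rw [dsz, pow_succ q 2]
      refine Nat.mul_le_mul (Nat.mul_le_mul ?_ ?_) ?_
      · rw [← hF]; exact Nat.card_le_card_of_injective _ Subtype.val_injective
      · exact le_trans (Nat.card_le_card_of_injective _ Subtype.val_injective) (le_of_eq (card_Sk hF h))
      · rw [← card_units_sq hF]; exact Nat.card_le_card_of_injective _ Subtype.val_injective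
    refine Nat.le_of_mul_le_mul_right ?_ (Nat.mul_pos (Nat.pow_pos (n := 3) (by omega : 0 < q))
      (Nat.sub_pos_of_lt (Nat.one_lt_pow two_ne_zero (by omega : 1 < q))))
    rw [← index_mul hF h H s]
    exact Nat.mul_le_mul_left _ ((Nat.mul_le_mul horb hd).trans (le_of_eq (one_mul _)))
  push Not at hone
  obtain ⟨w, hw0, hww, hw, hne⟩ := hone
  have hxw : uh σ x w ≠ 0 := fun e => by
    obtain ⟨y, P, s⟩ := exists_split (m := 1) h hx0 hxx
    obtain ⟨β, a, c, hβ, -, rfl⟩ := point_coords h s hw0 hww hne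
    simp [uh_smul_right, uh_add_right, s.xy, s.xx, h.swap_zero (uv_x s), hβ] at e
  obtain ⟨y, hy⟩ : ∃ y, y = (σ (uh σ x w))⁻¹ • w := ⟨_, rfl⟩
  have hyy : uh σ y y = 0 := by rw [hy, uh_smul_left, uh_smul_right, hww]; ring
  have hxy : uh σ x y = 1 := by rw [hy, uh_smul_right, map_inv₀, h.invol, inv_mul_cancel₀ hxw]
  obtain ⟨P, s⟩ := exists_split_pair h hxx hyy hxy
  have hyf : Full h H y := hy ▸ hw.smul h hww _
  by_cases hline : ∀ v, v ≠ 0 → uh σ v v = 0 → Full h H v → uh σ v (uv P) = 0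
  · let A : AddSubgroup (Fin 3 → F) := (F ∙ uv P).toAddSubgroup
    have hinv : ∀ g ∈ H, ∀ a ∈ A, g.1.1 *ᵥ a ∈ A := by
      intro g hg a ha
      obtain ⟨r, rfl⟩ := Submodule.mem_span_singleton.1 ha
      have key : ∀ v, v ≠ 0 → uh σ v v = 0 → Full h H v → uh σ (g.1.1 *ᵥ uv P) v = 0 := fun v hv0 hvv hv => by
        rw [← su_mulVec_inv g v, su_uh h]
        refine h.swap_zero (hline _ (fun e => hv0 ?_) (by rw [su_uh h, hvv]) (hv.map h (H.inv_mem hg)))
        rw [← su_mulVec_inv g v, e, mulVec_zero]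
      have h1 := dec3 h s (g.1.1 *ᵥ uv P)
      rw [key x hx0 hxx hx, key y (fun e => by rw [e, uh_zero_right] at hxy; exact zero_ne_one hxy) hyy hyf,
        zero_smul, zero_smul, zero_add, zero_add] at h1
      rw [mulVec_smul, ← h1, smul_smul]
      exact Submodule.mem_span_singleton.2 ⟨_, rfl⟩
    have h1 := class_count' H A hinv (fun v => uh σ v v = 1) (fun g v hv => by rw [su_uh h]; exact hv)
      (Submodule.mem_span_singleton_self (uv P))
      fun v hv => su_trans_norm hF h (k := 1) (by rw [uv_self h s]; exact one_ne_zero) (hv.trans (uv_self h s).symm)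
    have h2 : Nat.card {a : A // uh σ a.1 a.1 = 1} ≤ q + 1 := by
      rw [← card_pow_succ_eq_one hF]
      refine Nat.card_le_card_of_injective (fun a => ⟨uh σ a.1.1 (uv P), ?_⟩) ?_
      · obtain ⟨r, hr⟩ := Submodule.mem_span_singleton.1 a.1.2
        have := a.2
        rw [← hr, uh_smul_left, uh_smul_right, uv_self h s, mul_one] at this
        rw [← hr, uh_smul_left, uv_self h s, mul_one, pow_succ', ← h.pow, this]
      · intro a b e
        obtain ⟨r, hr⟩ := Submodule.mem_span_singleton.1 a.1.2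
        obtain ⟨t, ht⟩ := Submodule.mem_span_singleton.1 b.1.2
        have e' : uh σ a.1.1 (uv P) = uh σ b.1.1 (uv P) := congrArg Subtype.val e
        rw [← hr, ← ht, uh_smul_left, uh_smul_left, uv_self h s, mul_one, mul_one] at e'
        exact Subtype.ext (Subtype.ext (by rw [← hr, ← ht, e']))
    have h3 : Nat.card {v : Fin 3 → F // uh σ v v = 1} = q ^ 5 + q ^ 2 := by
      have e : Nat.card {v : Fin 3 → F // uh σ v v = 1} = normCount F q 3 1 :=
        Nat.card_congr (Equiv.subtypeEquivRight fun v => by rw [← h.hermForm_eq, hermForm_self])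
      have e2 := (normCount_closed hF 3).2
      rw [← normCount_eq_one hF 3 (one_pow q) one_ne_zero, ← e] at e2
      zify
      refine mul_left_cancel₀ (show (q : ℤ) ≠ 0 by positivity) ?_
      linear_combination e2
    refine Nat.le_of_mul_le_mul_right (le_trans ?_ ((h3 ▸ h1).trans (Nat.mul_le_mul_left _ h2))) (by omega : 0 < q + 1)
    have e3 : q ^ 3 * 2 ≤ q ^ 3 * q := Nat.mul_le_mul_left _ hq
    have e4 : q ^ 4 * 2 ≤ q ^ 4 * q := Nat.mul_le_mul_left _ hq
    have e5 : q + 1 ≤ q ^ 2 := by nlinarith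
    calc (q ^ 3 + 1) * (q + 1) = q ^ 4 + q ^ 3 + (q + 1) := by ring
      _ ≤ q ^ 5 + q ^ 2 := by rw [show q ^ 5 = q ^ 4 * q by ring, show q ^ 4 = q ^ 3 * q by ring] at *; omega
  push Not at hline
  obtain ⟨v, hv0, hvv, hv, hvu⟩ := hline
  exfalso
  have hne' : ∀ r : F, v ≠ r • x := fun r e => hvu (by rw [e, uh_smul_left, h.swap_zero (uv_x s), mul_zero])
  obtain ⟨β, a, c, hβ, hac, rfl⟩ := point_coords h s hv0 hvv hne'
  have hok := (ok_iff h s).1 hac
  have ha : a ≠ 0 := fun e => hvu (by simp [e, uh_smul_left, uh_add_left, h.swap_zero (uv_x s), h.swap_zero (uv_y s)])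
  have hvf : Full h H (y + a • uv P + c • x) := by
    have := hv.smul h hvv β⁻¹
    rwa [inv_smul_smul₀ hβ] at this
  refine hH (eq_top_iff.2 ?_)
  rw [← transvGroup_eq_top hF h 3 (by norm_num) fun _ => hq3]
  refine mem_of_eq_utv h fun v c hv hc => ?_
  rw [← ue_center h hv hc]
  exact all_full hF h s hx hyf hok ha hvf hv c hc

end CfsgLib.MinIdx.U3
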