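import Cfsg.Agent.Lib.MinIdx.U3.Basic
import Cfsg.Agent.Lib.MinIdx.UnFrame
import Cfsg.Agent.Lib.MinIdx.UnWeak

/-!
# Orbit counting on the isotropic points
-/

set_option autoImplicit false

namespace CfsgLib.MinIdx.U3

open Matrix CfsgLib.Classical CfsgLib.Classical.Unitary CfsgLib.MinIdx.Un
open scoped LinearAlgebra.Projectivization

variable {F : Type*} [Field F] [Finite F] {σ : F →+* F} {q : ℕ} {x y : Fin 3 → F}
  {P : Matrix (Fin 3) (Fin 1) F}

variable (σ) in
/-- The isotropic points. -/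
abbrev IsoPts : Type _ := {p : ℙ F (Fin 3 → F) // IsoP σ p}

theorem card_ok (hF : Nat.card F = q ^ 2) (h : UFrob σ q) :
    Nat.card {p : F × F // p.2 + σ p.2 + p.1 * σ p.1 = 0} = q ^ 3 := by
  obtain ⟨θ, hθ⟩ := exists_trace h
  rw [show q ^ 3 = Nat.card (F × Sk σ) by rw [Nat.card_prod, hF, card_Sk hF h]; ring]
  exact Nat.card_congr
    { toFun := fun p => (p.1.1, ⟨p.1.2 + θ * (p.1.1 * σ p.1.1), by
        have := p.2
        rw [mem_Sk, map_add, map_mul, map_mul, h.invol]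
        linear_combination this + (p.1.1 * σ p.1.1) * hθ⟩)
      invFun := fun r => ⟨(r.1, r.2.1 - θ * (r.1 * σ r.1)), by
        have := r.2.2
        rw [mem_Sk] at this
        rw [map_sub, map_mul, map_mul, h.invol]
        linear_combination this - (r.1 * σ r.1) * hθ⟩
      left_inv := fun p => by simp
      right_inv := fun r => by simp }

omit [Finite F] in
theorem uh_point (h : UFrob σ q) (s : Split σ 1 x y P) {a c : F} (hc : c + σ c + a * σ a = 0) :
    y + a • uv P + c • x ≠ 0 ∧ uh σ (y + a • uv P + c • x) (y + a • uv P + c • x) = 0 ∧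
      ∀ r : F, y + a • uv P + c • x ≠ r • x := by
  have he := (ok_iff h s).2 hc
  have h1 : ∀ r : F, y + a • uv P + c • x ≠ r • x := fun r e => by
    have := congrArg (fun w => uh σ w x) e
    simp [uh_add_left, uh_smul_left, s.yx h, uv_x s, s.xx] at this
  exact ⟨fun e => h1 0 (by rw [e, zero_smul]), by rw [← ue_y h s he, su_uh h, s.yy], h1⟩

theorem card_isoPts (hF : Nat.card F = q ^ 2) (h : UFrob σ q) : Nat.card (IsoPts σ) = q ^ 3 + 1 := by
  classical
  obtain ⟨x, hx0, hxx⟩ := exists_iso_vector (m := 3) h (by norm_num)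
  obtain ⟨y, P, s⟩ := exists_split (m := 1) h hx0 hxx
  rw [← card_ok hF h, show 1 = Nat.card Unit by simp, ← Nat.card_sum]
  refine (Nat.card_eq_of_bijective
    (Sum.elim (fun p => (⟨Projectivization.mk F (y + p.1.1 • uv P + p.1.2 • x) (uh_point h s p.2).1,
        (isoP_mk _).2 (uh_point h s p.2).2.1⟩ : IsoPts σ))
      (fun _ => ⟨ptX s, (isoP_mk _).2 hxx⟩)) ⟨?_, ?_⟩).symm
  · refine Function.Injective.sumElim (fun p p' e => ?_) (fun _ _ _ => rfl) fun p _ e => ?_
    · obtain ⟨r, hr⟩ := (Projectivization.mk_eq_mk_iff' _ _ _ _ _).1 (congrArg Subtype.val e)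
      have h1 := congrArg (fun w => uh σ w x) hr
      simp [uh_add_left, uh_smul_left, s.yx h, uv_x s, s.xx] at h1
      rw [h1, one_smul] at hr
      obtain ⟨e1, e2⟩ := coords_inj h s hr
      exact Subtype.ext (Prod.ext e1.symm e2.symm)
    · obtain ⟨r, hr⟩ := (eq_ptX_iff s _).1 (congrArg Subtype.val e)
      exact (uh_point h s p.2).2.2 r hr
  · rintro ⟨p, hp⟩
    induction p using Projectivization.ind with
    | h v hv =>
      by_cases hl : ∃ r : F, v = r • x
      · exact ⟨Sum.inr (), Subtype.ext ((eq_ptX_iff s hv).2 hl).symm⟩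
      push Not at hl
      obtain ⟨β, a, c, hβ, hok, hz⟩ := point_coords h s hv ((isoP_mk hv).1 hp) hl
      exact ⟨Sum.inl ⟨(a, c), (ok_iff h s).1 hok⟩,
        Subtype.ext ((Projectivization.mk_eq_mk_iff' _ _ _ _ _).2 ⟨β⁻¹, by rw [hz, inv_smul_smul₀ hβ]⟩)⟩

/-- The size of the point stabilizer. -/
noncomputable def dsz (h : UFrob σ q) (H : Subgroup (Cfsg.SU 3 F q)) (x : Fin 3 → F)
    (P : Matrix (Fin 3) (Fin 1) F) : ℕ :=
  Nat.card (rts h H x P) * Nat.card (ctr h H x) * Nat.card (scalars H x)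

theorem card_eq_orbit (h : UFrob σ q) (H : Subgroup (Cfsg.SU 3 F q)) (s : Split σ 1 x y P) :
    Nat.card H = Nat.card (MulAction.orbit H (ptX s)) * dsz h H x P := by
  rw [dsz, ← card_stX h H s, Subgroup.card_eq_card_quotient_mul_card_subgroup (MulAction.stabilizer H (ptX s)),
    Nat.card_congr (MulAction.orbitEquivQuotientStabilizer H (ptX s)).symm]
  congr 1
  refine Nat.card_congr
    { toFun := fun g => ⟨g.1.1, g.1.2, (smul_ptX_iff s _).1 g.2⟩
      invFun := fun g => ⟨⟨g.1, g.2.1⟩, (smul_ptX_iff s _).2 g.2.2⟩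
      left_inv := fun g => rfl
      right_inv := fun g => rfl }

omit [Finite F] in
theorem orbit_isoP (h : UFrob σ q) (H : Subgroup (Cfsg.SU 3 F q)) (s : Split σ 1 x y P) {p : ℙ F (Fin 3 → F)}
    (hp : p ∈ MulAction.orbit H (ptX s)) : IsoP σ p := by
  obtain ⟨g, rfl⟩ := hp
  exact smul_isoP h g.1 ((isoP_mk _).2 s.xx)

theorem orbit_le (hF : Nat.card F = q ^ 2) (h : UFrob σ q) (H : Subgroup (Cfsg.SU 3 F q)) (s : Split σ 1 x y P) :
    Nat.card (MulAction.orbit H (ptX s)) ≤ q ^ 3 + 1 := by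
  haveI : Finite (ℙ F (Fin 3 → F)) := inferInstance
  rw [← card_isoPts hF h (σ := σ)]
  exact Nat.card_le_card_of_injective (fun p => (⟨p.1, orbit_isoP h H s p.2⟩ : IsoPts σ))
    fun a b e => Subtype.ext (congrArg Subtype.val e :)

/-- The order of the whole group. -/
theorem card_group (hF : Nat.card F = q ^ 2) (h : UFrob σ q) :
    Nat.card (Cfsg.SU 3 F q) = (q ^ 3 + 1) * (q ^ 3 * (q ^ 2 - 1)) := by
  obtain ⟨x, hx0, hxx⟩ := exists_iso_vector (m := 3) h (by norm_num)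
  obtain ⟨y, P, s⟩ := exists_split (m := 1) h hx0 hxx
  obtain ⟨θ, hθ⟩ := exists_trace h
  rw [← Subgroup.card_top (G := Cfsg.SU 3 F q), card_eq_orbit h ⊤ s]
  congr 1
  · rw [← card_isoPts hF h (σ := σ)]
    refine Nat.card_congr (Equiv.subtypeEquivRight fun p => ⟨orbit_isoP h ⊤ s, fun hp => ?_⟩)
    induction p using Projectivization.ind with
    | h v hv =>
      obtain ⟨g, hg⟩ := su_trans hF h (m := 1) le_rfl hx0 hv hxx ((isoP_mk hv).1 hp)
      exact ⟨⟨g, Subgroup.mem_top _⟩, (smul_mk_eq_iff g s.x_ne hv).2 ⟨1, by rw [hg, one_smul]⟩⟩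
  · have e1 : rts h ⊤ x P = ⊤ := eq_top_iff.2 fun a _ => (mem_rts h s).2 ⟨-θ * (a * σ a), (ok_iff h s).2 (by
      rw [map_mul, map_neg, map_mul, h.invol]; linear_combination (-(a * σ a)) * hθ), Subgroup.mem_top _⟩
    have e2 : ctr h ⊤ x = ⊤ := eq_top_iff.2 fun t _ => (mem_ctr h hxx).2 (Subgroup.mem_top _)
    have e3 : scalars (⊤ : Subgroup (Cfsg.SU 3 F q)) x = ⊤ := eq_top_iff.2 fun α _ => by
      obtain ⟨k, hk, -, -⟩ := exists_torus h s α.ne_zero
      exact ⟨k, Subgroup.mem_top _, hk⟩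
    rw [dsz, e1, e2, e3, AddSubgroup.card_top, AddSubgroup.card_top, Subgroup.card_top, hF, card_Sk hF h,
      card_units_sq hF]
    ring

/-- Index, orbit length and stabilizer. -/
theorem index_mul (hF : Nat.card F = q ^ 2) (h : UFrob σ q) (H : Subgroup (Cfsg.SU 3 F q)) (s : Split σ 1 x y P) :
    H.index * (Nat.card (MulAction.orbit H (ptX s)) * dsz h H x P) = (q ^ 3 + 1) * (q ^ 3 * (q ^ 2 - 1)) := by
  rw [← card_group hF h, ← card_eq_orbit h H s, H.index_mul_card]

omit [Finite F] in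
theorem dsz_pos [Finite F] (h : UFrob σ q) (H : Subgroup (Cfsg.SU 3 F q)) (s : Split σ 1 x y P) :
    0 < dsz h H x P := by
  rw [dsz, ← card_stX h H s]
  exact Nat.card_pos

/-- The norm on units. -/
def normU (σ : F →+* F) : Fˣ →* Fˣ := MonoidHom.id Fˣ * Units.map σ.toMonoidHom

omit [Finite F] in
theorem normU_val (α : Fˣ) : (normU σ α : F) = α * σ α := rfl

/-- The norms of the scalars. -/
def norms (σ : F →+* F) (H : Subgroup (Cfsg.SU 3 F q)) (x : Fin 3 → F) : Subgroup Fˣ := (scalars H x).map (normU σ)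

theorem card_norm_one (hF : Nat.card F = q ^ 2) (h : UFrob σ q) : Nat.card (normU σ).ker = q + 1 := by
  rw [← card_normOne hF]
  have e : (normU σ : Fˣ →* Fˣ).ker = normOne F q := by
    ext u
    rw [MonoidHom.mem_ker, normOne, MonoidHom.mem_ker, Units.ext_iff, Units.ext_iff, normU_val, powMonoidHom_apply,
      Units.val_pow_eq_pow_val, pow_succ', h.pow]
  rw [e]

theorem card_scalars (H : Subgroup (Cfsg.SU 3 F q)) (x : Fin 3 → F) :
    Nat.card (scalars H x) =
      Nat.card (norms σ H x) * Nat.card ((scalars H x ⊓ (normU σ).ker : Subgroup Fˣ)) := by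
  let f := (normU σ).domRestrict (scalars H x)
  rw [Subgroup.card_eq_card_quotient_mul_card_subgroup f.ker,
    Nat.card_congr (QuotientGroup.quotientKerEquivRange f).toEquiv, norms, MonoidHom.range_eq_map]
  congr 1
  · refine congrArg (fun K : Subgroup Fˣ => Nat.card K) ?_
    ext u
    simp [f]
  · exact Nat.card_congr
      { toFun := fun g => ⟨g.1.1, g.1.2, MonoidHom.mem_ker.2 (MonoidHom.mem_ker.1 g.2)⟩
        invFun := fun g => ⟨⟨g.1, g.2.1⟩, MonoidHom.mem_ker.2 (MonoidHom.mem_ker.1 g.2.2 :)⟩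
        left_inv := fun g => rfl
        right_inv := fun g => rfl }

theorem card_scalars_le (hF : Nat.card F = q ^ 2) (h : UFrob σ q) (H : Subgroup (Cfsg.SU 3 F q)) (x : Fin 3 → F) :
    Nat.card (scalars H x) ≤ (q + 1) * Nat.card (norms σ H x) := by
  rw [card_scalars (σ := σ), mul_comm (q + 1), ← card_norm_one hF h]
  exact Nat.mul_le_mul_left _ (Nat.card_le_card_of_injective (fun g => (⟨g.1, g.2.2⟩ : (normU σ).ker))
    fun a b e => Subtype.ext (congrArg Subtype.val e :))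

/-- The multiplier homomorphism. -/
def muU (σ : F →+* F) : Fˣ →* Fˣ := (Units.map σ.toMonoidHom) ^ 2 * (MonoidHom.id Fˣ)⁻¹

omit [Finite F] in
theorem muU_val (α : Fˣ) : (muU σ α : F) = mu σ (α : F) := by
  simp [muU, mu, Units.val_inv_eq_inv_val]; ring

omit [Finite F] in
/-- The scalars act on the root set and on the centre. -/
theorem scalars_act (h : UFrob σ q) {H : Subgroup (Cfsg.SU 3 F q)} (s : Split σ 1 x y P) {α : Fˣ}
    (hα : α ∈ scalars H x) :
    (∀ a ∈ rts h H x P, mu σ (α : F) * a ∈ rts h H x P) ∧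
      ∀ t ∈ ctr h H x, ∃ hk, (⟨(α : F) * σ α * t.1, hk⟩ : Sk σ) ∈ ctr h H x := by
  obtain ⟨g, hg, hgx⟩ := hα
  obtain ⟨k, hkx, -, hku⟩ := exists_torus h s α.ne_zero
  obtain ⟨b, e, hbe, hv⟩ := fix_x h s (g := k⁻¹ * g) (by rw [su_mul_mulVec, hgx]; exact inv_move hkx)
  have key : ∀ {a c : F}, Ok σ x (a • uv P) c → ue h x (a • uv P) c ∈ H →
      ∃ c', Ok σ x ((mu σ (α : F) * a) • uv P) c' ∧ ue h x ((mu σ (α : F) * a) • uv P) c' ∈ H ∧
        (a = 0 → c' = (α : F) * σ α * c) := by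
    intro a c hc hm
    obtain ⟨c1, hc1, e1⟩ := conj_comm h hc (hbe.inv_ok h)
    rw [(hbe.inv_ok h).inv h, neg_neg, h.invol, ← hbe.inv h] at e1
    obtain ⟨hc2, e2⟩ := conj_torus h s hkx hku α.ne_zero hc1
    refine ⟨_, hc2, ?_, fun ha => ?_⟩
    · rw [← e2, ← e1, show k * (ue h x (b • uv P) e * ue h x (a • uv P) c * (ue h x (b • uv P) e)⁻¹) * k⁻¹ =
        k * ue h x (b • uv P) e * ue h x (a • uv P) c * (k * ue h x (b • uv P) e)⁻¹ by group, ← hv,
        mul_inv_cancel_left]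
      exact H.mul_mem (H.mul_mem hg hm) (H.inv_mem hg)
    · subst ha
      rw [zero_smul] at hc hc1 e1
      rw [hbe.inv h, hbe.mul h hc, (hbe.add h hc).mul h (hbe.inv_ok h)] at e1
      have o := (hbe.add h hc).add h (hbe.inv_ok h)
      rw [add_zero, add_neg_cancel] at o e1
      have h5 := (ue_inj h s (a := 0) (b := 0) (by rw [zero_smul]; exact o) (by rw [zero_smul]; exact hc1)
        (by rw [zero_smul]; exact e1)).2
      rw [← h5, uh_zero_left, uh_neg_left]
      linear_combination ((α : F) * σ α) * hbe.2.2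
  refine ⟨fun a ha => ?_, fun t ht => ?_⟩
  · obtain ⟨c, hc, hm⟩ := (mem_rts h s).1 ha
    obtain ⟨c', hc', hm', -⟩ := key hc hm
    exact (mem_rts h s).2 ⟨c', hc', hm'⟩
  · obtain ⟨c', hc', hm', he⟩ := key (a := 0) (c := t.1) (by rw [zero_smul]; exact Ok.zero s.xx t.2)
      (by rw [zero_smul]; exact (mem_ctr h s.xx).1 ht)
    obtain rfl := he rfl
    rw [mul_zero, zero_smul] at hc' hm'
    have hk : (α : F) * σ α * t.1 + σ ((α : F) * σ α * t.1) = 0 := by
      have := hc'.2.2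
      rwa [uh_zero_left, add_zero] at this
    exact ⟨hk, (mem_ctr h s.xx).2 hm'⟩

/-- A proper centre leaves few norms. -/
theorem norms_le (hF : Nat.card F = q ^ 2) (h : UFrob σ q) {H : Subgroup (Cfsg.SU 3 F q)} (s : Split σ 1 x y P)
    (hC : ctr h H x ≠ ⊤) (hC0 : ctr h H x ≠ ⊥) : (Nat.card (norms σ H x) + 1) * Nat.card (ctr h H x) ≤ q := by
  classical
  set C := ctr h H x
  obtain ⟨θ, -, hθ⟩ := SetLike.exists_of_lt (lt_top_iff_ne_top.2 hC)
  have hν : ∀ ν : norms σ H x, ∀ t ∈ C, ∃ hk, (⟨((ν.1 : Fˣ) : F) * t.1, hk⟩ : Sk σ) ∈ C := by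
    rintro ⟨_, α, hα, rfl⟩ t ht
    exact (scalars_act h s hα).2 t ht
  have hfix : ∀ ν : norms σ H x, σ ((ν.1 : Fˣ) : F) = ((ν.1 : Fˣ) : F) := by
    rintro ⟨_, α, hα, rfl⟩
    show σ (normU σ α : F) = (normU σ α : F)
    rw [normU_val, map_mul, h.invol, mul_comm]
  let cl : norms σ H x → Sk σ ⧸ C := fun ν => QuotientAddGroup.mk ⟨((ν.1 : Fˣ) : F) * θ.1, by
    have := θ.2
    rw [mem_Sk] at this ⊢
    rw [map_mul, hfix]
    linear_combination ((ν.1 : Fˣ) : F) * this⟩
  have hinj : Function.Injective cl := by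
    intro ν ν' e
    by_contra hne
    have hsub := QuotientAddGroup.eq.1 e
    let mul : C → C := fun t => ⟨⟨(((ν'.1 : Fˣ) : F) - ((ν.1 : Fˣ) : F)) * t.1.1, by
        have := t.1.2
        rw [mem_Sk] at this ⊢
        rw [map_mul, map_sub, hfix, hfix]
        linear_combination (((ν'.1 : Fˣ) : F) - ((ν.1 : Fˣ) : F)) * this⟩, by
      obtain ⟨_, h1⟩ := hν ν' t.1 t.2
      obtain ⟨_, h2⟩ := hν ν t.1 t.2
      convert C.sub_mem h1 h2 using 1
      exact Subtype.ext (sub_mul _ _ _)⟩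
    have hd : ((ν'.1 : Fˣ) : F) - ((ν.1 : Fˣ) : F) ≠ 0 :=
      sub_ne_zero.2 fun e' => hne (Subtype.ext (Units.ext e'.symm))
    have hm : Function.Injective mul := fun a b eab =>
      Subtype.ext (Subtype.ext (mul_left_cancel₀ hd (congrArg (fun t : C => t.1.1) eab)))
    obtain ⟨t, ht⟩ := Finite.surjective_of_injective hm ⟨_, hsub⟩
    have h3 : (((ν'.1 : Fˣ) : F) - ((ν.1 : Fˣ) : F)) * t.1.1 =
        -(((ν.1 : Fˣ) : F) * θ.1) + ((ν'.1 : Fˣ) : F) * θ.1 := congrArg (fun t : C => t.1.1) ht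
    refine hθ ?_
    have : t.1 = θ := Subtype.ext (mul_left_cancel₀ hd (by linear_combination h3))
    exact this ▸ t.2
  have h0 : ∀ ν, cl ν ≠ 0 := fun ν e => hθ (by
    obtain ⟨hk, h1⟩ := hν ν⁻¹ _ ((QuotientAddGroup.eq_zero_iff _).1 e)
    convert h1 using 1
    refine Subtype.ext ?_
    show θ.1 = (((ν⁻¹ : norms σ H x).1 : Fˣ) : F) * (((ν.1 : Fˣ) : F) * θ.1)
    rw [InvMemClass.coe_inv, Units.val_inv_eq_inv_val, ← mul_assoc, inv_mul_cancel₀ (Units.ne_zero _), one_mul])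
  haveI := Fintype.ofFinite (Sk σ ⧸ C)
  have hle : Nat.card (norms σ H x) + 1 ≤ C.index := by
    haveI := Fintype.ofFinite (norms σ H x)
    rw [AddSubgroup.index, Nat.card_eq_fintype_card, Nat.card_eq_fintype_card]
    refine Fintype.card_lt_of_injective_of_notMem cl hinj (b := 0) ?_
    rintro ⟨ν, e⟩
    exact h0 ν e
  calc _ ≤ C.index * Nat.card C := Nat.mul_le_mul_right _ hle
    _ = q := by rw [AddSubgroup.index_mul_card, card_Sk hF h]

/-- The multipliers permute the non-zero part of the root set freely. -/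
theorem mu_dvd (h : UFrob σ q) {H : Subgroup (Cfsg.SU 3 F q)} (s : Split σ 1 x y P) :
    Nat.card ((scalars H x).map (muU σ)) ∣ Nat.card (rts h H x P) - 1 := by
  classical
  set M := (scalars H x).map (muU σ)
  set A := rts h H x P
  let S : Set Fˣ := {u | (u : F) ∈ A}
  have hS : ∀ m : M, ∀ u ∈ S, u * (m.1 : Fˣ) ∈ S := by
    rintro ⟨_, α, hα, rfl⟩ u hu
    show ((u * muU σ α : Fˣ) : F) ∈ A
    rw [Units.val_mul, muU_val, mul_comm]
    exact (scalars_act h s hα).1 _ hu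
  have e1 : Nat.card S = Nat.card A - 1 := by
    haveI := Fintype.ofFinite A
    have : Nat.card S = Nat.card {a : A // a ≠ 0} := Nat.card_congr
      { toFun := fun u => ⟨⟨(u.1 : F), u.2⟩, fun e => u.1.ne_zero (congrArg Subtype.val e)⟩
        invFun := fun a => ⟨Units.mk0 a.1.1 fun e => a.2 (Subtype.ext e), a.1.2⟩
        left_inv := fun u => Subtype.ext (Units.ext rfl)
        right_inv := fun a => rfl }
    rw [this, Nat.card_eq_fintype_card, Fintype.card_subtype_compl, Fintype.card_subtype_eq,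
      ← Nat.card_eq_fintype_card]
  have e2 : S = QuotientGroup.mk ⁻¹' (QuotientGroup.mk '' S : Set (Fˣ ⧸ M)) := by
    refine Set.Subset.antisymm (Set.subset_preimage_image _ _) ?_
    rintro u ⟨v, hv, e⟩
    have hm := QuotientGroup.eq.1 e
    have := hS ⟨_, hm⟩ v hv
    rwa [mul_inv_cancel_left] at this
  rw [← e1, e2, Nat.card_congr (QuotientGroup.preimageMkEquivSubgroupProdSet M _), Nat.card_prod]
  exact dvd_mul_right _ _

end CfsgLib.MinIdx.U3
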