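import Cfsg.Agent.Lib.MinIdx.U3.Sylow

/-!
# Even characteristic
-/

set_option autoImplicit false

namespace CfsgLib.MinIdx.U3

open Matrix CfsgLib.Classical CfsgLib.Classical.Unitary CfsgLib.MinIdx.Un
open scoped LinearAlgebra.Projectivization

variable {F : Type*} [Field F] [Finite F] {σ : F →+* F} {q : ℕ} {x y : Fin 3 → F}
  {P : Matrix (Fin 3) (Fin 1) F}

/-- What a small index gives at every point. -/
structure Small (h : UFrob σ q) (H : Subgroup (Cfsg.SU 3 F q)) : Prop where
  trans : Trans σ H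
  ctr_ne : ∀ {x y : Fin 3 → F} {P : Matrix (Fin 3) (Fin 1) F}, Split σ 1 x y P → ctr h H x ≠ ⊤
  big : ∀ {x y : Fin 3 → F} {P : Matrix (Fin 3) (Fin 1) F}, Split σ 1 x y P → q ^ 2 - 1 ≤ dsz h H x P
  bot : ∀ {x y : Fin 3 → F} {P : Matrix (Fin 3) (Fin 1) F}, Split σ 1 x y P → rts h H x P = ⊥ →
    ctr h H x = ⊥ ∧ scalars H x = ⊤

theorem Small.card (hF : Nat.card F = q ^ 2) (h : UFrob σ q) {H : Subgroup (Cfsg.SU 3 F q)} (hs : Small h H)
    (s : Split σ 1 x y P) : Nat.card H = (q ^ 3 + 1) * dsz h H x P := by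
  rw [card_eq_orbit h H s, hs.trans.card_orbit hF h s]

omit [Finite F] in
/-- The transvections of `H` move to the other points. -/
theorem Small.ctr_move (h : UFrob σ q) {H : Subgroup (Cfsg.SU 3 F q)} (hs : Small h H) (s : Split σ 1 x y P)
    (hC : ctr h H x ≠ ⊥) {v : Fin 3 → F} (hv : v ≠ 0) (hvv : uh σ v v = 0) :
    ∃ c : F, c ≠ 0 ∧ c + σ c = 0 ∧ ue h v 0 c ∈ H := by
  obtain ⟨t, ht, ht0⟩ := (AddSubgroup.bot_or_exists_ne_zero _).resolve_left hC
  obtain ⟨g, hg⟩ := hs.trans (ptX s) (Projectivization.mk F v hv) ((isoP_mk _).2 s.xx) ((isoP_mk hv).2 hvv)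
  have hg' : g.1 • ptX s = Projectivization.mk F v hv := hg
  rw [ptX, smul_mk_eq_iff g.1 s.x_ne hv] at hg'
  obtain ⟨r, hr⟩ := hg'
  have hr0 : r ≠ 0 := fun e => s.x_ne (by rw [← su_inv_mulVec g.1 x, hr, e, zero_smul, mulVec_zero])
  have h1 := H.mul_mem (H.mul_mem g.2 ((mem_ctr h s.xx).1 ht)) (H.inv_mem g.2)
  rw [ue_conj, hr, mulVec_zero, ue_smul h (Ok.zero hvv (show t.1 + σ t.1 = 0 from t.2)), smul_zero] at h1
  refine ⟨_, mul_ne_zero (mul_ne_zero hr0 (by simpa using hr0)) (fun e => ht0 (Subtype.ext e)), ?_, h1⟩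
  have ht' : t.1 + σ t.1 = 0 := t.2
  rw [map_mul, map_mul, h.invol]
  linear_combination (r * σ r) * ht'

variable {p f : ℕ} [Fact p.Prime] [CharP F p]

omit [Finite F] in
theorem skew_fixed (h2 : (2 : F) = 0) {c : F} (hc : c + σ c = 0) : σ c = c := by
  linear_combination hc - c * h2

/-- No subgroup of odd order. -/
theorem even_bot (hF : Nat.card F = q ^ 2) (h : UFrob σ q) (hq : 4 ≤ q) (heven : Even q)
    {H : Subgroup (Cfsg.SU 3 F q)} (hs : Small h H) (s : Split σ 1 x y P) (hA : rts h H x P = ⊥) : False := by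
  obtain ⟨hC, hT⟩ := hs.bot s hA
  have hodd : Odd (Nat.card H) := by
    rw [hs.card hF h s, dsz, hA, hC, hT, AddSubgroup.card_bot, AddSubgroup.card_bot, Subgroup.card_top,
      card_units_sq hF, one_mul, one_mul]
    refine Odd.mul ((heven.pow_of_ne_zero three_ne_zero).add_one) ?_
    have h1 : Even (q ^ 2) := heven.pow_of_ne_zero two_ne_zero
    have := Nat.one_le_pow 2 q (by omega)
    rw [Nat.odd_iff]
    rw [Nat.even_iff] at h1
    omega
  obtain ⟨α, hα⟩ := IsCyclic.exists_generator (α := Fˣ)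
  obtain ⟨g, hg, hgx⟩ := (hT ▸ Subgroup.mem_top α : α ∈ scalars H x)
  obtain ⟨k, hkx, hky, hku⟩ := exists_torus h s α.ne_zero
  obtain ⟨a, c, hac, hv⟩ := fix_x h s (g := g * k⁻¹) (by
    have hk' : (k⁻¹).1.1 *ᵥ x = (α : F)⁻¹ • x := by
      rw [eq_inv_smul_iff₀ α.ne_zero, ← mulVec_smul]; exact inv_move hkx
    rw [su_mul_mulVec, hk', mulVec_smul, hgx, smul_smul, inv_mul_cancel₀ α.ne_zero, one_smul])
  have hgk : g = ue h x (a • uv P) c * k := by rw [← hv, inv_mul_cancel_right]
  have hord : orderOf α = q ^ 2 - 1 := by rw [orderOf_eq_card_of_forall_mem_zpowers hα, card_units_sq hF]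
  have hσ : ∀ u : F, σ u = u ^ q := h.pow
  have hpow : ∀ j : ℕ, 0 < j → j < q ^ 2 - 1 → (α : F) ^ j ≠ 1 := fun j hj0 hj e => by
    have h1 : α ^ j = 1 := Units.ext (by rw [Units.val_pow_eq_pow_val, e, Units.val_one])
    have := Nat.le_of_dvd hj0 (hord ▸ orderOf_dvd_of_pow_eq_one h1)
    omega
  have hq2 : 2 * q + 2 < q ^ 2 := by nlinarith
  have hmu : mu σ (α : F) ≠ 1 := fun e => by
    rw [mu, hσ, ← mul_div_assoc, div_eq_one_iff_eq α.ne_zero, ← pow_add] at e
    refine hpow (q + q - 1) (by omega) (by omega) ?_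
    refine mul_right_cancel₀ α.ne_zero ?_
    rw [← pow_succ, Nat.sub_add_cancel (by omega), e, one_mul]
  have hN : (α : F) * σ α ≠ 1 := fun e => by
    rw [hσ, ← pow_succ'] at e
    exact hpow _ (by omega) (by omega) e
  -- the second fixed point
  obtain ⟨θ, hθ⟩ := exists_trace h
  obtain ⟨b, hb⟩ : ∃ b, b = a / (1 - mu σ (α : F)) := ⟨_, rfl⟩
  have hb' : a + mu σ (α : F) * b = b := by
    rw [hb]; field_simp [sub_ne_zero.2 (Ne.symm hmu)]; ring
  obtain ⟨d0, hd0def⟩ : ∃ d, d = -θ * (b * σ b) := ⟨_, rfl⟩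
  have hd0 : d0 + σ d0 + b * σ b = 0 := by
    rw [hd0def, map_mul, map_neg, map_mul, h.invol]; linear_combination (-(b * σ b)) * hθ
  obtain ⟨hb1, e1⟩ := conj_torus h s hkx hku α.ne_zero ((ok_iff h s).2 hd0)
  have h1 := (hac.add h hb1)
  rw [← add_smul, hb', uh_smul_left, uh_smul_right, uv_self h s, mul_one] at h1
  obtain ⟨C0, hC0⟩ : ∃ C0, C0 = c + (α : F) * σ α * d0 - mu σ (α : F) * b * σ a := ⟨_, rfl⟩
  rw [← hC0] at h1
  have hC0' := (ok_iff h s).1 h1
  obtain ⟨ν, hν⟩ : ∃ ν, ν = (α : F) * σ α := ⟨_, rfl⟩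
  have hν' : σ ν = ν := by rw [hν, map_mul, h.invol, mul_comm]
  obtain ⟨e, he⟩ : ∃ e, e = (C0 - d0) / (1 - ν) := ⟨_, rfl⟩
  have hν1 : (1 : F) - ν ≠ 0 := sub_ne_zero.2 fun e' => hN (hν ▸ e'.symm)
  have hde : d0 + e + σ (d0 + e) + b * σ b = 0 := by
    have : e + σ e = 0 := by
      rw [he, map_div₀, map_sub, map_sub, map_one, hν', ← add_div, div_eq_zero_iff]
      left
      linear_combination hC0' - hd0
    rw [map_add]
    linear_combination hd0 + this
  obtain ⟨hb2, e2⟩ := conj_torus h s hkx hku α.ne_zero ((ok_iff h s).2 hde)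
  have hC1 : c + (α : F) * σ α * (d0 + e) - mu σ (α : F) * b * σ a = d0 + e := by
    rw [← hν] at hC0 ⊢
    have : e * (1 - ν) = C0 - d0 := by rw [he, div_mul_cancel₀ _ hν1]
    linear_combination -this - hC0
  obtain ⟨hz0, hzz, hzx⟩ := uh_point h s hde
  obtain ⟨z, hz⟩ : ∃ z, z = y + b • uv P + (d0 + e) • x := ⟨_, rfl⟩
  rw [← hz] at hz0 hzz hzx
  have hgz : g.1.1 *ᵥ z = (σ (α : F))⁻¹ • z := by
    have hzy : z = (ue h x (b • uv P) (d0 + e)).1.1 *ᵥ y := by rw [hz, ue_y h s ((ok_iff h s).2 hde)]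
    rw [hgk, hzy, ← su_mul_mulVec,
      show ue h x (a • uv P) c * k * ue h x (b • uv P) (d0 + e) =
        ue h x (a • uv P) c * (k * ue h x (b • uv P) (d0 + e) * k⁻¹) * k by group,
      e2, hac.mul h hb2, ← add_smul, hb', uh_smul_left, uh_smul_right, uv_self h s, mul_one, hC1,
      su_mul_mulVec, hky, mulVec_smul]
  -- the point stabilizer is cyclic
  have hcyc : ∀ w : Cfsg.SU 3 F q, w ∈ stX H x → ∃ i : ℤ, w = g ^ i := by
    rintro w ⟨hw, β, hwx⟩
    obtain ⟨i, rfl⟩ := Subgroup.mem_zpowers_iff.1 (hα β)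
    refine ⟨i, ?_⟩
    have hgi : g ^ i ∈ stX H x := (stX H x).zpow_mem ⟨hg, α, hgx⟩ i
    have hsc : ∀ j : ℤ, (g ^ j).1.1 *ᵥ x = ((α ^ j : Fˣ) : F) • x := fun j => by
      induction j using Int.induction_on with
      | zero => rw [zpow_zero, zpow_zero, su_one_mulVec, Units.val_one, one_smul]
      | succ j ih =>
        rw [_root_.zpow_add, _root_.zpow_add, zpow_one, zpow_one, su_mul_mulVec, hgx, mulVec_smul, ih, smul_smul,
          Units.val_mul, mul_comm]
      | pred j ih =>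
        rw [_root_.zpow_sub, _root_.zpow_sub, zpow_one, zpow_one, su_mul_mulVec]
        have : (g⁻¹).1.1 *ᵥ x = ((α⁻¹ : Fˣ) : F) • x := by
          rw [Units.val_inv_eq_inv_val, eq_inv_smul_iff₀ α.ne_zero, ← mulVec_smul, ← hgx, su_inv_mulVec]
        rw [this, mulVec_smul, ih, smul_smul, Units.val_mul, mul_comm]
    obtain ⟨a', c', hac', hv'⟩ := fix_x h s (g := (g ^ i)⁻¹ * w) (by
      rw [su_mul_mulVec, hwx]; exact inv_move (hsc i))
    have hm : ue h x (a' • uv P) c' ∈ H := hv' ▸ H.mul_mem (H.inv_mem hgi.1) hw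
    have ha' : a' = 0 := by
      have : a' ∈ rts h H x P := (mem_rts h s).2 ⟨c', hac', hm⟩
      rwa [hA, AddSubgroup.mem_bot] at this
    subst ha'
    rw [zero_smul] at hac' hm hv'
    have hc' : (⟨c', by
        have h1 := hac'.2.2
        rw [uh_zero_left, add_zero] at h1
        exact h1⟩ : Sk σ) ∈ ctr h H x := (mem_ctr h s.xx).2 hm
    rw [hC, AddSubgroup.mem_bot] at hc'
    rw [show c' = 0 from congrArg Subtype.val hc', ue_one] at hv'
    exact (inv_mul_eq_one.1 hv').symm
  -- an element exchanging the two points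
  obtain ⟨k₀, hk₀⟩ := hs.trans (ptX s) (Projectivization.mk F z hz0) ((isoP_mk _).2 s.xx) ((isoP_mk hz0).2 hzz)
  have hk : k₀.1 • ptX s = Projectivization.mk F z hz0 := hk₀
  have hfz : g • Projectivization.mk F z hz0 = Projectivization.mk F z hz0 := (smul_mk_eq_iff g hz0 hz0).2 ⟨_, hgz⟩
  have hfx : g • ptX s = ptX s := (smul_ptX_iff s g).2 ⟨α, hgx⟩
  have hgh : g • (k₀.1 • Projectivization.mk F z hz0) = k₀.1 • Projectivization.mk F z hz0 := by
    have h2 : k₀.1⁻¹ * g * k₀.1 ∈ stX H x := by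
      refine ⟨H.mul_mem (H.mul_mem (H.inv_mem k₀.2) hg) k₀.2, ?_⟩
      rw [← smul_ptX_iff s, mul_smul, mul_smul, hk, hfz, ← hk, inv_smul_smul]
    obtain ⟨i, hi⟩ := hcyc _ h2
    have h3 : g ^ i • Projectivization.mk F z hz0 = Projectivization.mk F z hz0 :=
      MulAction.mem_stabilizer_iff.1 ((MulAction.stabilizer _ _).zpow_mem (MulAction.mem_stabilizer_iff.2 hfz) i)
    rw [← hi, mul_smul, mul_smul, inv_smul_eq_iff] at h3
    exact h3
  obtain ⟨hw0, hw⟩ := smul_mk k₀.1 hz0
  rw [hw] at hgh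
  have hww : uh σ (k₀.1.1.1 *ᵥ z) (k₀.1.1.1 *ᵥ z) = 0 := by rw [su_uh h, hzz]
  have hswap : k₀.1 • Projectivization.mk F z hz0 = ptX s := by
    rw [hw]
    by_contra hne
    obtain ⟨β, b', d', hβ, hok', hwz⟩ :=
      point_coords h s hw0 hww fun r e => hne ((eq_ptX_iff s hw0).2 ⟨r, e⟩)
    obtain ⟨lam, hlam⟩ := (smul_mk_eq_iff g hw0 hw0).1 hgh
    rw [hwz, mulVec_smul, smul_smul, mul_comm lam, ← smul_smul] at hlam
    have h5 := smul_right_injective _ hβ hlam
    obtain ⟨hb3, e3⟩ := conj_torus h s hkx hku α.ne_zero hok'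
    have h6 : g.1.1 *ᵥ (y + b' • uv P + d' • x) = (σ (α : F))⁻¹ •
        (y + (a + mu σ (α : F) * b') • uv P + (c + (α : F) * σ α * d' - mu σ (α : F) * b' * σ a) • x) := by
      have o := hac.add h hb3
      rw [← add_smul, uh_smul_left, uh_smul_right, uv_self h s, mul_one] at o
      rw [hgk, ← ue_y h s hok', ← su_mul_mulVec,
        show ue h x (a • uv P) c * k * ue h x (b' • uv P) d' =
          ue h x (a • uv P) c * (k * ue h x (b' • uv P) d' * k⁻¹) * k by group,
        e3, hac.mul h hb3, ← add_smul, uh_smul_left, uh_smul_right, uv_self h s, mul_one,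
        su_mul_mulVec, hky, mulVec_smul, ue_y h s o]
    rw [h6] at h5
    have h7 := congrArg (fun w => uh σ w x) h5
    simp [uh_add_left, uh_smul_left, s.yx h, uv_x s, s.xx] at h7
    rw [← h7] at h5
    obtain ⟨e4, e5⟩ := coords_inj h s (smul_right_injective _ (inv_ne_zero (by simp)) h5)
    have hbb : b' = b := by
      rw [hb, eq_div_iff (sub_ne_zero.2 (Ne.symm hmu))]
      linear_combination -e4
    subst hbb
    have hdd : d' = d0 + e := by
      refine mul_right_cancel₀ hν1 ?_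
      rw [hν]
      linear_combination -e5 + hC1
    refine hne ?_
    exfalso
    have h8 : k₀.1 • Projectivization.mk F z hz0 = Projectivization.mk F z hz0 := by
      rw [hw, Projectivization.mk_eq_mk_iff']
      exact ⟨β, by rw [hwz, hdd, hz]⟩
    rw [← hk] at h8
    have h9 := MulAction.injective k₀.1 h8
    rw [hk] at h9
    obtain ⟨r, hr⟩ := (eq_ptX_iff s hz0).1 h9
    exact hzx r hr
  -- parity
  obtain ⟨i, hi⟩ : Odd (orderOf k₀) := hodd.of_dvd_nat (orderOf_dvd_natCard k₀)
  have hsq : k₀ ^ 2 • ptX s = ptX s := by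
    show (k₀ ^ 2).1 • ptX s = ptX s
    rw [SubmonoidClass.coe_pow, sq, mul_smul, hk, hswap]
  have hfix : k₀ • ptX s = ptX s := by
    have h10 : (k₀ ^ 2) ^ (i + 1) = k₀ := by
      rw [← pow_mul, show 2 * (i + 1) = orderOf k₀ + 1 by omega, pow_succ, pow_orderOf_eq_one, one_mul]
    rw [← h10]
    exact MulAction.mem_stabilizer_iff.1 ((MulAction.stabilizer _ _).pow_mem (MulAction.mem_stabilizer_iff.2 hsq) _)
  have hfix' : k₀.1 • ptX s = ptX s := hfix
  rw [hk] at hfix'
  obtain ⟨r, hr⟩ := (eq_ptX_iff s hz0).1 hfix'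
  exact hzx r hr

/-- Even characteristic. -/
theorem even_false (hF : Nat.card F = q ^ 2) (h : UFrob σ q) (hq : 4 ≤ q) (hp : p = 2) (hqp : q = p ^ f)
    {H : Subgroup (Cfsg.SU 3 F q)} (hs : Small h H) (s : Split σ 1 x y P) : False := by
  classical
  subst hp
  have h2 : (2 : F) = 0 := by simpa using CharP.cast_eq_zero F 2
  have hf : f ≠ 0 := fun e => by rw [e, pow_zero] at hqp; omega
  have heven : Even q := hqp ▸ Nat.even_pow.2 ⟨even_two, hf⟩
  have hroot : ∀ {x y : Fin 3 → F} {P : Matrix (Fin 3) (Fin 1) F}, Split σ 1 x y P → rts h H x P ≠ ⊥ :=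
    fun {x y P} s e => even_bot hF h hq heven hs s e
  have hN : ∀ a ∈ rts h H x P, ∃ hk, (⟨a * σ a, hk⟩ : Sk σ) ∈ ctr h H x := by
    intro a ha
    obtain ⟨c, hc, hm⟩ := (mem_rts h s).1 ha
    have hk : a * σ a + σ (a * σ a) = 0 := by rw [map_mul, h.invol]; linear_combination (a * σ a) * h2
    refine ⟨hk, (mem_ctr h s.xx).2 ?_⟩
    have h1 := H.mul_mem hm hm
    rw [hc.mul h hc] at h1
    convert h1 using 2
    · rw [← add_smul, show a + a = 0 by linear_combination a * h2, zero_smul]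
    · rw [uh_smul_left, uh_smul_right, uv_self h s, mul_one]
      linear_combination (a * σ a - c) * h2
  have hC0 : ctr h H x ≠ ⊥ := fun e => by
    obtain ⟨a, ha, ha0⟩ := (AddSubgroup.bot_or_exists_ne_zero _).resolve_left (hroot s)
    obtain ⟨hk, h1⟩ := hN a ha
    rw [e, AddSubgroup.mem_bot] at h1
    exact mul_ne_zero ha0 (show σ a ≠ 0 by simpa using ha0) (congrArg Subtype.val h1)
  -- the centre has two elements
  have hline : ∀ w : ℙ F (Fin 3 → F), OnLn σ (uv P) w → w ∈ MulAction.orbit (stU H (uv P)) (ptX s) := by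
    intro w hw
    by_contra hnot
    have key : ∀ v, OnLn σ (uv P) v →
        (v ∈ MulAction.orbit (stU H (uv P)) (ptX s) → Nat.card (MulAction.orbit (stU H (uv P)) (ptX s)) ≡ 1 [MOD 2]) ∧
        (v ∉ MulAction.orbit (stU H (uv P)) (ptX s) → Nat.card (MulAction.orbit (stU H (uv P)) (ptX s)) ≡ 0 [MOD 2]) := by
      intro v hv
      induction v using Projectivization.ind with
      | h v hv0 =>
        obtain ⟨hvv, hvu⟩ := (onLn_mk hv0).1 hv
        obtain ⟨y', P', s'⟩ := exists_split (m := 1) h hv0 hvv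
        obtain ⟨c, hc0, hc, hm⟩ := hs.ctr_move h s hC0 hv0 hvv
        have hok : Ok σ v ((0 : F) • uv P') c := by rw [zero_smul]; exact Ok.zero hvv hc
        refine orbit_mod h (p := 2) (by exact_mod_cast h2) s' hok ?_ ?_ (ptX s) ((isoP_mk _).2 s.xx)
        · rw [zero_smul]
          refine ⟨hm, 1, ?_⟩
          rw [ue_apply h (Ok.zero hvv hc), uh_zero_right, h.swap_zero hvu]
          simp
        · intro e
          refine hc0 (ue_inj h s' hok (by rw [zero_smul]; exact Ok.zero hvv (by simp)) ?_).2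
          rw [e, zero_smul, ue_one]
    have h1 := ((key _ ((onLn_mk _).2 ⟨s.xx, h.swap_zero (uv_x s)⟩)).1 (MulAction.mem_orbit_self _)).symm.trans ((key w hw).2 hnot)
    exact absurd h1 (by decide)
  have hc2 : Nat.card (ctr h H x) = 2 := by
    have hne : Nat.card (ctr h H x) ≠ 1 := fun e => hC0 (AddSubgroup.eq_bot_of_card_eq _ e)
    have hpos := Nat.card_pos (α := ctr h H x)
    obtain ⟨j, hj1, -, hcase | ⟨-, hc1 | ⟨h3, -⟩⟩⟩ := line_cases hF h (by omega) hqp s (hs.ctr_ne s) hline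
    · have hn : 1 ≤ Nat.card (norms σ (stU H (uv P)) x) := Nat.card_pos
      have := Nat.mul_le_mul_left (Nat.card (ctr h H x)) (hn.trans hj1)
      omega
    · exact absurd hc1 hne
    · norm_num at h3
  obtain ⟨c₀, hc₀, hc₀0⟩ := (AddSubgroup.bot_or_exists_ne_zero _).resolve_left hC0
  have honly : ∀ t ∈ ctr h H x, t = 0 ∨ t = c₀ := fun t ht => by
    by_contra hne
    push Not at hne
    haveI := Fintype.ofFinite (ctr h H x)
    rw [Nat.card_eq_fintype_card] at hc2
    have : 2 < Fintype.card (ctr h H x) := Fintype.two_lt_card_iff.2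
      ⟨0, ⟨c₀, hc₀⟩, ⟨t, ht⟩, fun e => hc₀0 (congrArg Subtype.val e).symm, fun e => hne.1 (congrArg Subtype.val e).symm,
        fun e => hne.2 (congrArg Subtype.val e).symm⟩
    omega
  have hNv : ∀ a ∈ rts h H x P, a ≠ 0 → a * σ a = c₀.1 := fun a ha ha0 => by
    obtain ⟨hk, h1⟩ := hN a ha
    rcases honly _ h1 with e | e
    · exact absurd (congrArg Subtype.val e) (mul_ne_zero ha0 (show σ a ≠ 0 by simpa using ha0))
    · exact congrArg Subtype.val e
  have hA4 : Nat.card (rts h H x P) ≤ 4 := by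
    by_contra h5
    push Not at h5
    haveI := Fintype.ofFinite (rts h H x P)
    rw [Nat.card_eq_fintype_card] at h5
    obtain ⟨⟨a, ha⟩, -, ha0⟩ := Finset.exists_mem_notMem_of_card_lt_card (s := ({0} : Finset (rts h H x P)))
      (t := Finset.univ) (by rw [Finset.card_singleton, Finset.card_univ]; omega)
    obtain ⟨⟨b, hb⟩, -, hb0⟩ := Finset.exists_mem_notMem_of_card_lt_card
      (s := ({0, ⟨a, ha⟩} : Finset (rts h H x P))) (t := Finset.univ)
      (by rw [Finset.card_univ]; exact lt_of_le_of_lt Finset.card_le_two (by omega))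
    obtain ⟨⟨e, he⟩, -, he0⟩ := Finset.exists_mem_notMem_of_card_lt_card
      (s := ({0, ⟨a, ha⟩, ⟨b, hb⟩, ⟨a + b, (rts h H x P).add_mem ha hb⟩} : Finset (rts h H x P))) (t := Finset.univ)
      (by rw [Finset.card_univ]; exact lt_of_le_of_lt Finset.card_le_four h5)
    simp only [Finset.mem_singleton, Finset.mem_insert, not_or, Subtype.mk.injEq, Subtype.ext_iff, ZeroMemClass.coe_zero] at ha0 hb0 he0
    have htr : ∀ u ∈ rts h H x P, ∀ w ∈ rts h H x P, u ≠ 0 → w ≠ 0 → u + w ≠ 0 → u * σ w + w * σ u = c₀.1 := by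
      intro u hu w hw u0 w0 uw
      have h6 := hNv _ ((rts h H x P).add_mem hu hw) uw
      rw [map_add] at h6
      linear_combination h6 - hNv u hu u0 - hNv w hw w0 - c₀.1 * h2
    have hne : ∀ u w : F, u ≠ w → u + w ≠ 0 := fun u w huw e' => huw (by linear_combination e' - w * h2)
    have t1 := htr a ha b hb ha0 hb0.1 (hne _ _ (Ne.symm hb0.2))
    have t2 := htr a ha e he ha0 he0.1 (hne _ _ (Ne.symm he0.2.1))
    have t3 := htr a ha (b + e) ((rts h H x P).add_mem hb he) ha0 (hne _ _ (Ne.symm he0.2.2.1)) (by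
      intro e'
      exact he0.2.2.2 (by linear_combination e' - (a + b) * h2))
    rw [map_add] at t3
    exact hc₀0 (Subtype.ext (show c₀.1 = 0 by linear_combination t3 - t1 - t2))
  -- the scalars
  have hT9 : ∀ α ∈ scalars H x, α ^ (q + 1) = 1 ∧ α ^ 9 = 1 := by
    intro α hα
    obtain ⟨hk, h1⟩ := (scalars_act h s hα).2 _ hc₀
    have hn : (α : F) * σ α = 1 := by
      rcases honly _ h1 with e | e
      · exact absurd (congrArg Subtype.val e) (mul_ne_zero (mul_ne_zero α.ne_zero (by simp)) fun e' => hc₀0 (Subtype.ext e'))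
      · have e' : (α : F) * σ α * c₀.1 = c₀.1 := congrArg Subtype.val e
        exact mul_right_cancel₀ (fun e'' => hc₀0 (Subtype.ext e'')) (by rw [one_mul]; exact e')
    have hμ : (mu σ (α : F)) ^ 3 = 1 := by
      have hd := mu_dvd h s (H := H)
      have hmem : muU σ α ∈ (scalars H x).map (muU σ) := Subgroup.mem_map_of_mem _ hα
      have hM := Subgroup.orderOf_dvd_natCard _ hmem
      have h3 : Nat.card (rts h H x P) - 1 ∣ 3 := by
        have hdvd : Nat.card (rts h H x P) ∣ 2 ^ (2 * f) := by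
          rw [mul_comm, pow_mul, ← hqp, ← hF]; exact AddSubgroup.card_addSubgroup_dvd_card _
        obtain ⟨i, -, hi⟩ := (Nat.dvd_prime_pow Nat.prime_two).1 hdvd
        have hne1 : Nat.card (rts h H x P) ≠ 1 := fun e => hroot s (AddSubgroup.eq_bot_of_card_eq _ e)
        rw [hi] at hA4 hne1 ⊢
        have hi3 : i ≤ 2 := (Nat.pow_le_pow_iff_right one_lt_two).1 hA4
        interval_cases i <;> simp_all
      have := orderOf_dvd_iff_pow_eq_one.1 (hM.trans (hd.trans h3))
      have h4 := congrArg Units.val this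
      rwa [Units.val_pow_eq_pow_val, muU_val, Units.val_one] at h4
    refine ⟨Units.ext (by rw [Units.val_pow_eq_pow_val, Units.val_one, pow_succ', ← h.pow, hn]), Units.ext ?_⟩
    rw [Units.val_pow_eq_pow_val, Units.val_one]
    have hσ : σ (α : F) = (α : F)⁻¹ := eq_inv_of_mul_eq_one_right hn
    rw [mu, hσ] at hμ
    field_simp at hμ
    exact hμ.symm
  obtain ⟨τ, hτ⟩ := IsCyclic.exists_generator (α := scalars H x)
  have hTd : Nat.card (scalars H x) ∣ q + 1 ∧ Nat.card (scalars H x) ∣ 9 := by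
    rw [← orderOf_eq_card_of_forall_mem_zpowers hτ]
    exact ⟨orderOf_dvd_of_pow_eq_one (Subtype.ext (hT9 _ τ.2).1), orderOf_dvd_of_pow_eq_one (Subtype.ext (hT9 _ τ.2).2)⟩
  have hbig := hs.big s
  have hD : dsz h H x P ≤ 4 * 2 * 9 := by
    rw [dsz, hc2]
    exact Nat.mul_le_mul (Nat.mul_le_mul_right _ hA4) (Nat.le_of_dvd (by norm_num) hTd.2)
  have hq8 : q = 4 ∨ q = 8 := by
    have h1 : q ^ 2 ≤ 73 := by omega
    have hq8 : q < 9 := by nlinarith
    subst hqp
    have hf3 : f ≤ 3 := by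
      by_contra hf4
      have := Nat.pow_le_pow_right two_pos (show 4 ≤ f by omega)
      omega
    interval_cases f <;> simp_all
  rw [dsz, hc2] at hbig
  rcases hq8 with rfl | rfl
  · have h1 : Nat.card (scalars H x) = 1 := Nat.eq_one_of_dvd_coprimes (by norm_num : Nat.Coprime 5 9) hTd.1 hTd.2
    rw [h1] at hbig
    norm_num at hbig
    omega
  · obtain ⟨hA, hT⟩ : Nat.card (rts h H x P) = 4 ∧ Nat.card (scalars H x) = 9 := by
      have hle := Nat.le_of_dvd (by norm_num) hTd.2
      norm_num at hbig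
      have hA0 : 4 ≤ Nat.card (rts h H x P) := by
        by_contra h3
        have := Nat.mul_le_mul (Nat.mul_le_mul_right 2 (show Nat.card (rts h H x P) ≤ 3 by omega)) hle
        omega
      have hA : Nat.card (rts h H x P) = 4 := le_antisymm hA4 hA0
      rw [hA] at hbig
      obtain ⟨i, hi, he⟩ := (Nat.dvd_prime_pow Nat.prime_three).1 (show _ ∣ 3 ^ 2 from hTd.2)
      exact ⟨hA, by interval_cases i <;> omega⟩
    have hdd : ∀ (x' y' : Fin 3 → F) (P' : Matrix (Fin 3) (Fin 1) F), Split σ 1 x' y' P' → dsz h H x' P' = 72 := by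
      intro x' y' P' s'
      have h1 := (hs.card hF h s').symm.trans (hs.card hF h s)
      have h3 : dsz h H x' P' = dsz h H x P := Nat.eq_of_mul_eq_mul_left (by norm_num) h1
      rw [h3, dsz, hc2, hA, hT]
    refine no_sylow (r := 19) (M := 1944) hF h ?_ (by norm_num) (by norm_num) hdd ?_ (by norm_num) (by norm_num) (by decide +kernel)
    · rw [hs.card hF h s, hdd x y P s]; norm_num
    · intro t ht htt ht1
      haveI := Fintype.ofFinite (IsoPts σ)
      let φ : IsoPts σ → IsoPts σ := fun w => ⟨t • w.1, smul_isoP h t w.2⟩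
      have hφ : Function.Involutive φ := fun w => Subtype.ext (by
        show t • t • w.1 = w.1
        rw [← mul_smul, htt, one_smul])
      obtain ⟨⟨w, hw⟩, hfix⟩ := Equiv.Perm.exists_fixed_point_of_prime (p := 2) (n := 1)
        (σ := hφ.toPerm φ) (by
          rw [← Nat.card_eq_fintype_card, card_isoPts hF h]
          decide) (Equiv.ext fun w => by
            rw [pow_one, sq, Equiv.Perm.mul_apply, Function.Involutive.coe_toPerm, hφ w, Equiv.Perm.one_apply])
      have hfix' : t • w = w := congrArg Subtype.val hfix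
      induction w using Projectivization.ind with
      | h v hv =>
        have hvv := (isoP_mk hv).1 hw
        obtain ⟨y', P', s'⟩ := exists_split (m := 1) h hv hvv
        obtain ⟨α, hα⟩ := (smul_ptX_iff s' t).1 hfix'
        have hα1 : (α : F) = 1 := by
          have h1 : v = ((α : F) * α) • v := by
            rw [mul_smul, ← hα, ← mulVec_smul, ← hα, ← su_mul_mulVec, htt, su_one_mulVec]
          have h3 := scalar_unique hv (h1.symm.trans (one_smul F v).symm)
          have h4 : ((α : F) + 1) * (α + 1) = 0 := by linear_combination h3 + (α : F) * h2 + h2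
          linear_combination mul_self_eq_zero.1 h4 - h2
        obtain ⟨a, c, hac, htv⟩ := fix_x h s' (g := t) (by rw [hα, hα1, one_smul])
        have hk : a * σ a + σ (a * σ a) = 0 := by rw [map_mul, h.invol]; linear_combination (a * σ a) * h2
        have ha : a = 0 := by
          have h1 : ue h v (a • uv P') c * ue h v (a • uv P') c = 1 := by rw [← htv]; exact htt
          rw [hac.mul h hac, ← ue_one h v] at h1
          have hok : Ok σ v ((0 : F) • uv P') (a * σ a) := by rw [zero_smul]; exact Ok.zero hvv hk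
          have h3 : ue h v ((0 : F) • uv P') (a * σ a) = ue h v ((0 : F) • uv P') 0 := by
            rw [zero_smul]
            refine Eq.trans ?_ h1
            congr 1
            · rw [← add_smul, show a + a = 0 by linear_combination a * h2, zero_smul]
            · rw [uh_smul_left, uh_smul_right, uv_self h s', mul_one]
              linear_combination (a * σ a - c) * h2
          have hok0 : Ok σ v ((0 : F) • uv P') 0 := by rw [zero_smul]; exact Ok.zero hvv (by simp)
          simpa using (ue_inj h s' hok hok0 h3).2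
        subst ha
        rw [zero_smul] at hac htv
        refine ⟨v, 1, hv, one_mul 1, one_pow 3, fun z hz => ?_, Or.inl rfl⟩
        rw [htv, ue_apply h hac, hz, uh_zero_right, one_smul]
        simp

end CfsgLib.MinIdx.U3
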