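import Cfsg.Agent.Lib.MinIdx.U3.Trans
import Cfsg.Agent.Lib.PSL2.DicksonPSL
import Cfsg.Agent.Lib.PSL2.Maximal

/-!
# The group of a secant line
-/

set_option autoImplicit false

namespace CfsgLib.MinIdx.U3

open Matrix CfsgLib.Classical CfsgLib.Classical.Unitary CfsgLib.MinIdx.Un
open scoped LinearAlgebra.Projectivization

variable {F : Type*} [Field F] {σ : F →+* F} {q : ℕ} {x y : Fin 3 → F} {P : Matrix (Fin 3) (Fin 1) F}

/-- The elements of `H` fixing the line of `u`. -/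
def stU (H : Subgroup (Cfsg.SU 3 F q)) (u : Fin 3 → F) : Subgroup (Cfsg.SU 3 F q) where
  carrier := {g | g ∈ H ∧ ∃ δ : Fˣ, g.1.1 *ᵥ u = (δ : F) • u}
  one_mem' := ⟨H.one_mem, 1, by rw [su_one_mulVec, Units.val_one, one_smul]⟩
  mul_mem' := by
    rintro a b ⟨ha, α, hax⟩ ⟨hb, β, hbx⟩
    exact ⟨H.mul_mem ha hb, α * β, by rw [su_mul_mulVec, hbx, mulVec_smul, hax, smul_smul, Units.val_mul, mul_comm]⟩
  inv_mem' := by
    rintro a ⟨ha, α, hax⟩
    exact ⟨H.inv_mem ha, α⁻¹, by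
      rw [Units.val_inv_eq_inv_val, eq_inv_smul_iff₀ α.ne_zero, ← mulVec_smul, ← hax, su_inv_mulVec]⟩

theorem stU_perp (h : UFrob σ q) {H : Subgroup (Cfsg.SU 3 F q)} {u v : Fin 3 → F} {g : Cfsg.SU 3 F q}
    (hg : g ∈ stU H u) (hv : uh σ v u = 0) : uh σ (g.1.1 *ᵥ v) u = 0 := by
  obtain ⟨δ, hδ⟩ := hg.2
  have h1 := su_uh h g v u
  rw [hδ, uh_smul_right, hv] at h1
  exact (mul_eq_zero.1 h1).resolve_left (by simp)

/-- The coordinates on the plane of `x` and `y`. -/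
def lmat (σ : F →+* F) (x y : Fin 3 → F) (g : Cfsg.SU 3 F q) : Matrix (Fin 2) (Fin 2) F :=
  !![uh σ (g.1.1 *ᵥ x) y, uh σ (g.1.1 *ᵥ y) y; uh σ (g.1.1 *ᵥ x) x, uh σ (g.1.1 *ᵥ y) x]

theorem plane_dec (h : UFrob σ q) (s : Split σ 1 x y P) {v : Fin 3 → F} (hv : uh σ v (uv P) = 0) :
    v = uh σ v y • x + uh σ v x • y := by
  have h1 := dec3 h s v
  rw [hv, zero_smul, add_zero] at h1
  exact h1.symm

/-- The map to the group of the plane. -/
noncomputable def lineHom (h : UFrob σ q) (H : Subgroup (Cfsg.SU 3 F q)) (s : Split σ 1 x y P) :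
    stU H (uv P) →* Matrix (Fin 2) (Fin 2) F where
  toFun g := lmat σ x y g.1
  map_one' := by
    show lmat σ x y (1 : Cfsg.SU 3 F q) = 1
    rw [lmat, su_one_mulVec, su_one_mulVec, s.xy, s.yy, s.xx, s.yx h, Matrix.one_fin_two]
  map_mul' g k := by
    have ex := plane_dec h s (stU_perp h k.2 (h.swap_zero (uv_x s)))
    have ey := plane_dec h s (stU_perp h k.2 (h.swap_zero (uv_y s)))
    show lmat σ x y (g.1 * k.1) = _ * _
    rw [lmat, lmat, lmat, su_mul_mulVec, su_mul_mulVec, Matrix.mul_fin_two]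
    conv_lhs => rw [ex, ey]
    simp only [mulVec_add, mulVec_smul, uh_add_left, uh_smul_left]
    ext i j
    fin_cases i <;> fin_cases j <;> simp <;> ring

/-- The map to the projective group of the plane. -/
noncomputable def projHom (h : UFrob σ q) (H : Subgroup (Cfsg.SU 3 F q)) (s : Split σ 1 x y P) :
    stU H (uv P) →* Matrix.ProjGenLinGroup (Fin 2) F :=
  Matrix.ProjGenLinGroup.mk.comp (lineHom h H s).toHomUnits

theorem projHom_eq_one (h : UFrob σ q) (H : Subgroup (Cfsg.SU 3 F q)) (s : Split σ 1 x y P)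
    (g : stU H (uv P)) : projHom h H s g = 1 ↔ ∃ lam : F, g.1.1.1 *ᵥ x = lam • x ∧ g.1.1.1 *ᵥ y = lam • y := by
  refine Iff.trans (QuotientGroup.eq_one_iff ((lineHom h H s).toHomUnits g)) ?_
  rw [Matrix.GeneralLinearGroup.center_eq_range_scalar]
  constructor
  · rintro ⟨r, hr⟩
    have e : lmat σ x y g.1 = Matrix.scalar (Fin 2) (r : F) := (congrArg Units.val hr).symm
    have e00 := congrFun (congrFun e 0) 0
    have e01 := congrFun (congrFun e 0) 1
    have e10 := congrFun (congrFun e 1) 0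
    have e11 := congrFun (congrFun e 1) 1
    simp [lmat] at e00 e01 e10 e11
    refine ⟨r, ?_, ?_⟩
    · rw [plane_dec h s (stU_perp h g.2 (h.swap_zero (uv_x s))), e00, e10]; simp
    · rw [plane_dec h s (stU_perp h g.2 (h.swap_zero (uv_y s))), e01, e11]; simp
  · rintro ⟨lam, hx, hy⟩
    have hl : lam ≠ 0 := fun e => s.x_ne (by rw [← su_inv_mulVec g.1 x, hx, e, zero_smul, mulVec_zero])
    refine ⟨Units.mk0 lam hl, Units.ext ?_⟩
    show Matrix.scalar (Fin 2) lam = lmat σ x y g.1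
    rw [lmat, hx, hy]
    ext i j
    fin_cases i <;> fin_cases j <;> simp [uh_smul_left, s.xx, s.yy, s.xy, s.yx h]

/-- Three fixed points force a scalar. -/
theorem three_fixed {a b c d : F} {s₁ t₁ s₂ t₂ s₃ t₃ : F} (h1 : c * s₁ * s₁ + (d - a) * (s₁ * t₁) - b * t₁ * t₁ = 0)
    (h2 : c * s₂ * s₂ + (d - a) * (s₂ * t₂) - b * t₂ * t₂ = 0)
    (h3 : c * s₃ * s₃ + (d - a) * (s₃ * t₃) - b * t₃ * t₃ = 0) (h12 : s₁ * t₂ - s₂ * t₁ ≠ 0)
    (h13 : s₁ * t₃ - s₃ * t₁ ≠ 0) (h23 : s₂ * t₃ - s₃ * t₂ ≠ 0) : c = 0 ∧ b = 0 ∧ a = d := by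
  have hΔ : (s₁ * t₂ - s₂ * t₁) * (s₁ * t₃ - s₃ * t₁) * (s₂ * t₃ - s₃ * t₂) ≠ 0 :=
    mul_ne_zero (mul_ne_zero h12 h13) h23
  refine ⟨(mul_eq_zero.1 (?_ : (s₁ * t₂ - s₂ * t₁) * (s₁ * t₃ - s₃ * t₁) * (s₂ * t₃ - s₃ * t₂) * c = 0)).resolve_left hΔ,
    (mul_eq_zero.1 (?_ : (s₁ * t₂ - s₂ * t₁) * (s₁ * t₃ - s₃ * t₁) * (s₂ * t₃ - s₃ * t₂) * b = 0)).resolve_left hΔ,
    (sub_eq_zero.1 ((mul_eq_zero.1
      (?_ : (s₁ * t₂ - s₂ * t₁) * (s₁ * t₃ - s₃ * t₁) * (s₂ * t₃ - s₃ * t₂) * (d - a) = 0)).resolve_left hΔ)).symm⟩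
  · linear_combination (t₂ * t₃ * (s₂ * t₃ - s₃ * t₂)) * h1 - (t₁ * t₃ * (s₁ * t₃ - s₃ * t₁)) * h2 +
      (t₁ * t₂ * (s₁ * t₂ - s₂ * t₁)) * h3
  · linear_combination -(s₂ * s₃ * (s₂ * t₃ - s₃ * t₂)) * h1 + (s₁ * s₃ * (s₁ * t₃ - s₃ * t₁)) * h2 -
      (s₁ * s₂ * (s₁ * t₂ - s₂ * t₁)) * h3
  · linear_combination -((s₂ * t₃ + s₃ * t₂) * (s₂ * t₃ - s₃ * t₂)) * h1 +
      ((s₁ * t₃ + s₃ * t₁) * (s₁ * t₃ - s₃ * t₁)) * h2 - ((s₁ * t₂ + s₂ * t₁) * (s₁ * t₂ - s₂ * t₁)) * h3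

variable (σ) in
/-- The isotropic points of the line polar to `u`. -/
def OnLn (u : Fin 3 → F) (p : ℙ F (Fin 3 → F)) : Prop := IsoP σ p ∧ uh σ p.rep u = 0

theorem onLn_mk {u v : Fin 3 → F} (hv : v ≠ 0) :
    OnLn σ u (Projectivization.mk F v hv) ↔ uh σ v v = 0 ∧ uh σ v u = 0 := by
  obtain ⟨r, hr, e⟩ := rep_smul v hv
  rw [OnLn, isoP_mk, e, uh_smul_left]
  simp [hr]

theorem onLn_smul (h : UFrob σ q) {H : Subgroup (Cfsg.SU 3 F q)} {u : Fin 3 → F} {g : Cfsg.SU 3 F q}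
    (hg : g ∈ stU H u) {p : ℙ F (Fin 3 → F)} (hp : OnLn σ u p) : OnLn σ u (g • p) := by
  induction p using Projectivization.ind with
  | h v hv =>
    obtain ⟨h0, e⟩ := smul_mk g hv
    obtain ⟨h1, h2⟩ := (onLn_mk hv).1 hp
    rw [e, onLn_mk, su_uh h]
    exact ⟨h1, stU_perp h hg h2⟩

theorem scalar_of_three (h : UFrob σ q) {H : Subgroup (Cfsg.SU 3 F q)} (s : Split σ 1 x y P) (g : stU H (uv P))
    {p₁ p₂ p₃ : ℙ F (Fin 3 → F)} (o1 : OnLn σ (uv P) p₁) (o2 : OnLn σ (uv P) p₂) (o3 : OnLn σ (uv P) p₃)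
    (e1 : g.1 • p₁ = p₁) (e2 : g.1 • p₂ = p₂) (e3 : g.1 • p₃ = p₃) (h12 : p₁ ≠ p₂) (h13 : p₁ ≠ p₃) (h23 : p₂ ≠ p₃) :
    projHom h H s g = 1 := by
  induction p₁ using Projectivization.ind with
  | h v₁ hv₁ =>
  induction p₂ using Projectivization.ind with
  | h v₂ hv₂ =>
  induction p₃ using Projectivization.ind with
  | h v₃ hv₃ =>
  obtain ⟨a, ha⟩ : ∃ a, a = uh σ (g.1.1.1 *ᵥ x) y := ⟨_, rfl⟩
  obtain ⟨b, hb⟩ : ∃ b, b = uh σ (g.1.1.1 *ᵥ y) y := ⟨_, rfl⟩
  obtain ⟨c, hc⟩ : ∃ c, c = uh σ (g.1.1.1 *ᵥ x) x := ⟨_, rfl⟩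
  obtain ⟨d, hd⟩ : ∃ d, d = uh σ (g.1.1.1 *ᵥ y) x := ⟨_, rfl⟩
  have eig : ∀ v (hv : v ≠ 0), OnLn σ (uv P) (Projectivization.mk F v hv) →
      g.1 • Projectivization.mk F v hv = Projectivization.mk F v hv →
      c * uh σ v y * uh σ v y + (d - a) * (uh σ v y * uh σ v x) - b * uh σ v x * uh σ v x = 0 := by
    intro v hv ho he
    obtain ⟨r, hr⟩ := (smul_mk_eq_iff g.1 hv hv).1 he
    have hvd := plane_dec h s ((onLn_mk hv).1 ho).2
    have h5 : g.1.1.1 *ᵥ v = uh σ v y • g.1.1.1 *ᵥ x + uh σ v x • g.1.1.1 *ᵥ y := by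
      conv_lhs => rw [hvd]
      rw [mulVec_add, mulVec_smul, mulVec_smul]
    have h6 := congrArg (fun w => uh σ w y) hr
    have h7 := congrArg (fun w => uh σ w x) hr
    simp only [h5, uh_add_left, uh_smul_left, ← ha, ← hb, ← hc, ← hd] at h6 h7
    linear_combination (uh σ v y) * h7 - (uh σ v x) * h6
  have det : ∀ v w (hv : v ≠ 0) (hw : w ≠ 0), OnLn σ (uv P) (Projectivization.mk F v hv) →
      OnLn σ (uv P) (Projectivization.mk F w hw) → Projectivization.mk F v hv ≠ Projectivization.mk F w hw →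
      uh σ v y * uh σ w x - uh σ w y * uh σ v x ≠ 0 := by
    intro v w hv hw hov how hne e
    refine hne ((Projectivization.mk_eq_mk_iff' _ _ _ _ _).2 ?_)
    have e1 := plane_dec h s ((onLn_mk hv).1 hov).2
    have e2 := plane_dec h s ((onLn_mk hw).1 how).2
    by_cases h0 : uh σ w x = 0
    · have hwy : uh σ w y ≠ 0 := fun h1 => hw (by rw [e2, h0, h1]; simp)
      rw [h0, mul_zero, zero_sub, neg_eq_zero] at e
      have hvx : uh σ v x = 0 := (mul_eq_zero.1 e).resolve_left hwy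
      refine ⟨uh σ v y / uh σ w y, ?_⟩
      conv_lhs => arg 2; rw [e2]
      conv_rhs => rw [e1]
      rw [h0, hvx]
      simp [smul_smul, div_mul_cancel₀ _ hwy]
    · refine ⟨uh σ v x / uh σ w x, ?_⟩
      conv_lhs => arg 2; rw [e2]
      conv_rhs => rw [e1]
      rw [smul_add, smul_smul, smul_smul, div_mul_cancel₀ _ h0]
      congr 2
      field_simp
      linear_combination -e
  obtain ⟨hc0, hb0, had⟩ := three_fixed (eig _ hv₁ o1 e1) (eig _ hv₂ o2 e2) (eig _ hv₃ o3 e3)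
    (det _ _ hv₁ hv₂ o1 o2 h12) (det _ _ hv₁ hv₃ o1 o3 h13) (det _ _ hv₂ hv₃ o2 o3 h23)
  rw [projHom_eq_one]
  refine ⟨a, ?_, ?_⟩
  · rw [plane_dec h s (stU_perp h g.2 (h.swap_zero (uv_x s))), ← ha, ← hc, hc0]; simp
  · rw [plane_dec h s (stU_perp h g.2 (h.swap_zero (uv_y s))), ← hb, ← hd, hb0, had]; simp

variable [Finite F]

theorem card_line (hF : Nat.card F = q ^ 2) (h : UFrob σ q) (s : Split σ 1 x y P) :
    Nat.card {p : ℙ F (Fin 3 → F) // OnLn σ (uv P) p} = q + 1 := by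
  classical
  rw [show q + 1 = Nat.card (Sk σ ⊕ Unit) by rw [Nat.card_sum, card_Sk hF h]; simp]
  have hok : ∀ c : Sk σ, c.1 + σ c.1 + 0 * σ 0 = 0 := fun c => by
    have : c.1 + σ c.1 = 0 := c.2
    linear_combination this
  have hv : ∀ c : Sk σ, y + (c.1 : F) • x ≠ 0 := fun c e => (uh_point h s (hok c)).1 (by rw [zero_smul, add_zero]; exact e)
  refine (Nat.card_eq_of_bijective
    (Sum.elim (fun c : Sk σ => (⟨Projectivization.mk F (y + (c.1 : F) • x) (hv c), (onLn_mk _).2 ⟨by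
        have := (uh_point h s (hok c)).2.1
        rwa [zero_smul, add_zero] at this, by
        simp [uh_add_left, uh_smul_left, h.swap_zero (uv_x s), h.swap_zero (uv_y s)]⟩⟩ :
        {p : ℙ F (Fin 3 → F) // OnLn σ (uv P) p}))
      (fun _ => ⟨ptX s, (onLn_mk _).2 ⟨s.xx, h.swap_zero (uv_x s)⟩⟩)) ⟨?_, ?_⟩).symm
  · refine Function.Injective.sumElim (fun c c' e => ?_) (fun _ _ _ => rfl) fun c _ e => ?_
    · obtain ⟨r, hr⟩ := (Projectivization.mk_eq_mk_iff' _ _ _ _ _).1 (congrArg Subtype.val e)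
      have h1 := congrArg (fun w => uh σ w x) hr
      simp [uh_add_left, uh_smul_left, s.yx h, s.xx] at h1
      rw [h1, one_smul] at hr
      have h2 := congrArg (fun w => uh σ w y) hr
      simp [uh_add_left, uh_smul_left, s.yy, s.xy] at h2
      exact h2.symm
    · obtain ⟨r, hr⟩ := (eq_ptX_iff s _).1 (congrArg Subtype.val e)
      have h1 := congrArg (fun w => uh σ w x) hr
      simp [uh_add_left, uh_smul_left, s.yx h, s.xx] at h1
  · rintro ⟨p, hp⟩
    induction p using Projectivization.ind with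
    | h v hv' =>
      obtain ⟨hvv, hvu⟩ := (onLn_mk hv').1 hp
      by_cases hl : ∃ r : F, v = r • x
      · exact ⟨Sum.inr (), Subtype.ext ((eq_ptX_iff s hv').2 hl).symm⟩
      push Not at hl
      obtain ⟨β, a, c, hβ, hok', hz⟩ := point_coords h s hv' hvv hl
      have ha : a = 0 := by
        rw [hz, uh_smul_left] at hvu
        simpa [uh_add_left, uh_smul_left, h.swap_zero (uv_x s), h.swap_zero (uv_y s), uv_self h s, hβ] using hvu
      subst ha
      refine ⟨Sum.inl ⟨c, ?_⟩, Subtype.ext ((Projectivization.mk_eq_mk_iff' _ _ _ _ _).2 ⟨β⁻¹, ?_⟩)⟩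
      · have := (ok_iff h s).1 hok'
        rw [mem_Sk]
        linear_combination this
      · rw [hz, inv_smul_smul₀ hβ]; simp

omit [Finite F] in
theorem rts_stU (h : UFrob σ q) (H : Subgroup (Cfsg.SU 3 F q)) (s : Split σ 1 x y P) :
    rts h (stU H (uv P)) x P = ⊥ := by
  refine (eq_bot_iff).2 fun a ha => ?_
  obtain ⟨c, hc, hm⟩ := (mem_rts h s).1 ha
  obtain ⟨δ, hδ⟩ := hm.2
  have h1 := congrArg (fun w => uh σ w y) hδ
  simp [ue_apply h hc, uh_add_left, uh_smul_left, uh_smul_right, uh_neg_left, uv_self h s, uv_x s, uv_y s, s.xy] at h1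
  simpa using h1

omit [Finite F] in
theorem ctr_stU (h : UFrob σ q) (H : Subgroup (Cfsg.SU 3 F q)) (s : Split σ 1 x y P) :
    ctr h (stU H (uv P)) x = ctr h H x := by
  ext t
  rw [mem_ctr h s.xx, mem_ctr h s.xx]
  refine ⟨fun ht => ht.1, fun ht => ⟨ht, 1, ?_⟩⟩
  have e := ue_apply h (Ok.zero s.xx (show t.1 + σ t.1 = 0 from t.2)) (uv P)
  rw [e, uh_zero_right, uv_x s]
  simp

theorem card_subfield_group {K : Type*} [Field K] [Finite K] {G : Type*} [Group G]
    (iso : Nonempty (G ≃* Matrix.ProjGenLinGroup (Fin 2) K) ∨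
      (Odd (Nat.card K) ∧ Nonempty (G ≃* Matrix.ProjectiveSpecialLinearGroup (Fin 2) K))) :
    ∃ e, (e = 1 ∨ (e = 2 ∧ Odd (Nat.card K))) ∧
      e * Nat.card G = (Nat.card K + 1) * (Nat.card K * (Nat.card K - 1)) := by
  rcases iso with ⟨⟨i⟩⟩ | ⟨hodd, ⟨i⟩⟩
  · exact ⟨1, Or.inl rfl, by rw [one_mul, Nat.card_congr i.toEquiv, CfsgLib.PSL2.card_pgl_two rfl]⟩
  · refine ⟨2, Or.inr ⟨rfl, hodd⟩, ?_⟩
    obtain ⟨j, hj⟩ := hodd
    rw [← CfsgLib.PSL2.card_pslRange_mul (F := K), Nat.card_congr i.toEquiv,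
      Nat.gcd_eq_left (show 2 ∣ Nat.card K - 1 from ⟨j, by omega⟩)]
    congr 1
    exact Nat.card_congr (MonoidHom.ofInjective ProjectiveSpecialLinearGroup.toPGL_injective).toEquiv

omit [Finite F] in
theorem pow_add_one_not_dvd {p a f : ℕ} (hp : 2 ≤ p) (ha : 1 ≤ a) (haf : a < f) :
    ¬ p ^ f + 1 ∣ p ^ (2 * a) - 1 := by
  intro hd
  have h2a : 1 < p ^ (2 * a) := Nat.one_lt_pow (by omega) (by omega)
  have hle := Nat.le_of_dvd (by omega) hd
  have hf : f ≤ 2 * a := by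
    by_contra hlt
    push Not at hlt
    have := Nat.pow_le_pow_right (show 1 ≤ p by omega) hlt.le
    omega
  obtain ⟨d, hd'⟩ := Nat.exists_eq_add_of_le hf
  have h1 : p ^ f + 1 ∣ p ^ d * (p ^ f + 1) := dvd_mul_left _ _
  have h2 : p ^ f + 1 ∣ p ^ d + 1 := by
    have e : p ^ d * (p ^ f + 1) = p ^ (2 * a) - 1 + (p ^ d + 1) := by
      rw [hd', pow_add]
      have := Nat.mul_pos (Nat.pow_pos (n := f) (show 0 < p by omega)) (Nat.pow_pos (n := d) (show 0 < p by omega))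
      rw [Nat.mul_add, mul_one, mul_comm (p ^ d) (p ^ f)]
      omega
    rw [e] at h1
    exact (Nat.dvd_add_right hd).1 h1
  have h3 := Nat.le_of_dvd (Nat.succ_pos _) h2
  have h4 := Nat.pow_le_pow_iff_right (show 1 < p by omega) |>.1 (show p ^ f ≤ p ^ d by omega)
  omega

/-- The possible orders of the group of a secant with all its points in one orbit. -/
theorem line_cases (hF : Nat.card F = q ^ 2) (h : UFrob σ q) (hq : 3 ≤ q) {p f : ℕ} [Fact p.Prime] [CharP F p]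
    (hqp : q = p ^ f) {H : Subgroup (Cfsg.SU 3 F q)} (s : Split σ 1 x y P) (hC : ctr h H x ≠ ⊤)
    (hline : ∀ w : ℙ F (Fin 3 → F), OnLn σ (uv P) w → w ∈ MulAction.orbit (stU H (uv P)) (ptX s)) :
    ∃ j, Nat.card (norms σ (stU H (uv P)) x) ≤ j ∧ j ∣ Nat.card (scalars (stU H (uv P)) x) ∧
      (Nat.card (ctr h H x) * j ≤ 2 ∨
        (((q + 1) * (Nat.card (ctr h H x) * j) = 12 ∨ (q + 1) * (Nat.card (ctr h H x) * j) = 24 ∨
          (q + 1) * (Nat.card (ctr h H x) * j) = 60) ∧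
          (Nat.card (ctr h H x) = 1 ∨ (p = 3 ∧ (q + 1) * (Nat.card (ctr h H x) * j) = 60)))) := by
  classical
  have hp : p.Prime := Fact.out
  set L := stU H (uv P)
  set T := scalars L x
  set π := projHom h H s
  -- orders
  have horb : Nat.card (MulAction.orbit L (ptX s)) = q + 1 := by
    rw [← card_line hF h s]
    refine Nat.card_congr (Equiv.subtypeEquivRight fun w => ⟨?_, hline w⟩)
    rintro ⟨g, rfl⟩
    exact onLn_smul h g.2 ((onLn_mk _).2 ⟨s.xx, h.swap_zero (uv_x s)⟩)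
  have hL : Nat.card L = (q + 1) * (Nat.card (ctr h H x) * Nat.card T) := by
    rw [card_eq_orbit h L s, horb, dsz, rts_stU h H s, ctr_stU h H s, AddSubgroup.card_bot, one_mul]
  have hscal : ∀ g : π.ker, ∃ α : Fˣ, (α : Fˣ) ∈ T ⊓ (normU σ).ker ∧ g.1.1.1.1 *ᵥ x = (α : F) • x ∧
      g.1.1.1.1 *ᵥ y = (α : F) • y := by
    intro g
    obtain ⟨lam, hlx, hly⟩ := (projHom_eq_one h H s g.1).1 g.2
    have hl : lam ≠ 0 := fun e => s.x_ne (by rw [← su_inv_mulVec g.1.1 x, hlx, e, zero_smul, mulVec_zero])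
    refine ⟨Units.mk0 lam hl, ⟨⟨g.1.1, g.1.2, hlx⟩, ?_⟩, hlx, hly⟩
    refine MonoidHom.mem_ker.2 (Units.ext ?_)
    have h1 := su_uh h g.1.1 x y
    rw [hlx, hly, uh_smul_left, uh_smul_right, s.xy, mul_one] at h1
    rw [normU_val, Units.val_one, Units.val_mk0, h1]
  choose ψ hψ hψx hψy using hscal
  let Ψ : π.ker →* (T ⊓ (normU σ).ker : Subgroup Fˣ) :=
    { toFun := fun g => ⟨ψ g, hψ g⟩
      map_one' := Subtype.ext (Units.ext (scalar_unique s.x_ne (by
        rw [← hψx 1]; show (1 : Cfsg.SU 3 F q).1.1 *ᵥ x = _; simp [su_one_mulVec])))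
      map_mul' := fun a b => Subtype.ext (Units.ext (scalar_unique s.x_ne (by
        rw [← hψx (a * b)]
        show (a.1.1 * b.1.1 : Cfsg.SU 3 F q).1.1 *ᵥ x = _
        rw [su_mul_mulVec, hψx b, mulVec_smul, hψx a, smul_smul]
        simp [mul_comm]))) }
  have hΨ : Function.Injective Ψ := by
    refine (injective_iff_map_eq_one Ψ).2 fun g hg => ?_
    have hg' : ψ g = 1 := congrArg Subtype.val hg
    refine Subtype.ext (Subtype.ext (fix_pair h s ?_ ?_))
    · rw [hψx, hg', Units.val_one, one_smul]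
    · rw [hψy, hg', Units.val_one, one_smul]
  have hK1 : Nat.card π.ker ∣ Nat.card (T ⊓ (normU σ).ker : Subgroup Fˣ) :=
    Subgroup.card_dvd_of_injective Ψ hΨ
  obtain ⟨i, hi⟩ := hK1
  obtain ⟨j, hj⟩ : ∃ j, j = Nat.card (norms σ L x) * i := ⟨_, rfl⟩
  have hTj : Nat.card T = Nat.card π.ker * j := by
    rw [hj, card_scalars (σ := σ) L x, hi]; ring
  have hi1 : 1 ≤ i := Nat.pos_of_ne_zero fun e => by
    rw [e, mul_zero] at hi; exact Nat.card_pos.ne' hi
  have hR : Nat.card π.range = (q + 1) * (Nat.card (ctr h H x) * j) := by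
    refine Nat.eq_of_mul_eq_mul_left (Nat.card_pos (α := π.ker)) ?_
    calc Nat.card π.ker * Nat.card π.range = Nat.card L := by
          rw [Subgroup.card_eq_card_quotient_mul_card_subgroup π.ker,
            Nat.card_congr (QuotientGroup.quotientKerEquivRange π).toEquiv, mul_comm]
      _ = _ := by rw [hL, hTj]; ring
  refine ⟨j, hj ▸ Nat.le_mul_of_pos_right _ hi1, Dvd.intro_left _ hTj.symm, ?_⟩
  rw [← hR]
  -- arithmetic
  have hf : f ≠ 0 := fun e => by rw [e, pow_zero] at hqp; omega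
  have hcd : Nat.card (ctr h H x) ∣ p ^ f := by
    exact (AddSubgroup.card_addSubgroup_dvd_card _).trans (dvd_of_eq ((card_Sk hF h).trans hqp))
  obtain ⟨a, haf, hca⟩ := (Nat.dvd_prime_pow hp).1 hcd
  have haf' : a < f := lt_of_le_of_ne haf fun e => hC (AddSubgroup.eq_top_of_card_eq _ (by
    rw [card_Sk hF h, hca, e, hqp]))
  have hTd : Nat.card T ∣ q ^ 2 - 1 := card_units_sq hF ▸ Subgroup.card_subgroup_dvd_card T
  have hjd : j ∣ q ^ 2 - 1 := (Dvd.intro_left _ hTj.symm).trans hTd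
  have hpq : p ∣ q := hqp ▸ dvd_pow_self p hf
  have hpj : ¬ p ∣ (q + 1) * j := by
    rw [hp.dvd_mul]
    rintro (h1 | h1)
    · exact hp.not_dvd_one ((Nat.dvd_add_right hpq).1 h1)
    · refine hp.not_dvd_one ?_
      have h2 : p ∣ q ^ 2 - 1 := h1.trans hjd
      have h3 : p ∣ q ^ 2 := dvd_pow hpq two_ne_zero
      have h4 : q ^ 2 - (q ^ 2 - 1) = 1 := by have := Nat.one_le_pow 2 q (by omega); omega
      exact h4 ▸ Nat.dvd_sub h3 h2
  have hCone : ¬ p ∣ Nat.card π.range → Nat.card (ctr h H x) = 1 := fun hnd => by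
    by_contra hne
    refine hnd (hR ▸ Dvd.dvd.mul_left (Dvd.dvd.mul_right ?_ j) (q + 1))
    rw [hca] at hne ⊢
    exact dvd_pow_self p fun e => hne (by rw [e, pow_zero])
  -- an element moves some point in a long cycle
  have hcyc : ∀ r ∈ π.range, orderOf r ≤ q + 1 := by
    rintro _ ⟨g, rfl⟩
    obtain ⟨o, ho⟩ : ∃ o : ℕ, o = q + 1 := ⟨_, rfl⟩
    let S := {w : ℙ F (Fin 3 → F) // OnLn σ (uv P) w}
    haveI : Finite S := inferInstance
    let act : S → S := fun w => ⟨g.1 • w.1, onLn_smul h g.2 w.2⟩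
    have hinj : Function.Injective act := fun v w e =>
      Subtype.ext (MulAction.injective g.1 (congrArg Subtype.val e :))
    have hpow : ∀ (n : ℕ) (w : S), (act^[n] w).1 = (g ^ n).1 • w.1 := by
      intro n
      induction n with
      | zero => intro w; simp
      | succ n ih =>
        intro w
        rw [Function.iterate_succ_apply, ih]
        show (g ^ n).1 • g.1 • w.1 = _
        rw [← mul_smul, pow_succ]
        rfl
    by_cases h3 : ∀ w : S, act (act w) = w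
    · have hcard : 2 < Nat.card S := by rw [show Nat.card S = q + 1 from card_line hF h s]; omega
      haveI := Fintype.ofFinite S
      rw [Nat.card_eq_fintype_card, Fintype.two_lt_card_iff] at hcard
      obtain ⟨w₁, w₂, w₃, d12, d13, d23⟩ := hcard
      have hfix : ∀ w : S, (g ^ 2).1 • w.1 = w.1 := fun w => by
        rw [← hpow 2 w]; exact congrArg Subtype.val (h3 w)
      have h1 := scalar_of_three h s (g ^ 2) w₁.2 w₂.2 w₃.2 (hfix _) (hfix _) (hfix _)
        (fun e => d12 (Subtype.ext e)) (fun e => d13 (Subtype.ext e)) (fun e => d23 (Subtype.ext e))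
      rw [map_pow] at h1
      exact (orderOf_le_of_pow_eq_one two_pos h1).trans (by omega)
    push Not at h3
    obtain ⟨w, hw⟩ := h3
    have hw1 : act w ≠ w := fun e => hw (by rw [e, e])
    have hmem : w ∈ Function.periodicPts act := hinj.mem_periodicPts w
    set m := Function.minimalPeriod act w
    have hm0 : 0 < m := Function.minimalPeriod_pos_of_mem_periodicPts hmem
    have hle : m ≤ q + 1 := by
      have h4 := Nat.card_le_card_of_injective (fun i : Fin m => act^[i.1] w) fun i i' e =>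
        Fin.ext (Function.iterate_injOn_Iio_minimalPeriod i.2 i'.2 e)
      rwa [Nat.card_fin, show Nat.card S = q + 1 from card_line hF h s] at h4
    have hmf : (g ^ m).1 • w.1 = w.1 := by
      rw [← hpow]; exact congrArg Subtype.val (Function.iterate_minimalPeriod)
    have hmf' : ∀ n, (g ^ m).1 • (act^[n] w).1 = (act^[n] w).1 := fun n => by
      rw [hpow, ← mul_smul, ← Subgroup.coe_mul, ← pow_add, add_comm, pow_add, Subgroup.coe_mul, mul_smul, hmf]
    have h1 := scalar_of_three h s (g ^ m) w.2 (act w).2 (act (act w)).2 hmf (hmf' 1) (hmf' 2)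
      (fun e => hw1 (Subtype.ext e).symm) (fun e => hw (Subtype.ext e).symm)
      (fun e => hw1 (hinj (Subtype.ext e)).symm)
    rw [map_pow] at h1
    exact (orderOf_le_of_pow_eq_one hm0 h1).trans hle
  haveI : Finite (Matrix.ProjGenLinGroup (Fin 2) F) := Finite.of_surjective _ ProjGenLinGroup.mk_surjective
  rcases CfsgLib.PSL2.dickson_pgl (F := F) (p := p) π.range with
    ⟨hc, hnp⟩ | ⟨r, hr, k, hk, -, hnp, hcard, -⟩ | ⟨Pp, hpH, hle⟩ | ⟨hnp, ⟨i⟩⟩ | ⟨hnp, ⟨i⟩⟩ | ⟨hnp, ⟨i⟩⟩ | ⟨K, iso⟩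
  · left
    obtain ⟨r, hr⟩ := hc.exists_generator
    have h1 := hcyc r.1 r.2
    rw [Subgroup.orderOf_coe, orderOf_eq_card_of_forall_mem_zpowers hr, hR] at h1
    refine Nat.le_of_mul_le_mul_left ?_ (Nat.succ_pos q)
    exact h1.trans (Nat.le_mul_of_pos_right _ two_pos)
  · left
    have h1 := hcyc r hr
    rw [hk] at h1
    refine Nat.le_of_mul_le_mul_left ?_ (Nat.succ_pos q)
    show (q + 1) * _ ≤ (q + 1) * 2
    rw [← hR, hcard]
    omega
  · exfalso
    -- the Sylow part is normal, so all points are fixed by it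
    let Q : Subgroup L := (Pp : Subgroup _).comap π
    haveI hQn : Q.Normal := ⟨fun n hn g => by
      show π (g * n * g⁻¹) ∈ (Pp : Subgroup _)
      rw [map_mul, map_mul, map_inv]
      exact (Subgroup.mem_normalizer_iff.1 (hle ⟨g, rfl⟩) _).1 hn⟩
    obtain ⟨r, hr⟩ := exists_prime_orderOf_dvd_card' (G := π.range) p hpH
    obtain ⟨g, hg⟩ := r.2
    have hgQ : g ∈ Q := by
      show π g ∈ (Pp : Subgroup _)
      rw [hg]
      have hz : IsPGroup p (Subgroup.zpowers (r : Matrix.ProjGenLinGroup (Fin 2) F)) :=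
        IsPGroup.of_card (n := 1) (by rw [Nat.card_zpowers, Subgroup.orderOf_coe, hr, pow_one])
      have hN : Subgroup.zpowers (r : Matrix.ProjGenLinGroup (Fin 2) F) ≤
          Subgroup.normalizer ((Pp : Subgroup (Matrix.ProjGenLinGroup (Fin 2) F)) : Set _) :=
        Subgroup.zpowers_le.2 (show (r : Matrix.ProjGenLinGroup (Fin 2) F) ∈ _ from hle r.2)
      have h5 := IsPGroup.to_sup_of_normal_right' hz Pp.2 hN
      rw [← Pp.3 h5 le_sup_right]
      exact Subgroup.mem_sup_left (Subgroup.mem_zpowers _)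
    have hQimg : IsPGroup p (Q.map π) := Pp.2.to_le (Subgroup.map_comap_le _ _)
    -- the length of a Q-orbit
    let S := {w : ℙ F (Fin 3 → F) // OnLn σ (uv P) w}
    let x₀ : S := ⟨ptX s, (onLn_mk _).2 ⟨s.xx, h.swap_zero (uv_x s)⟩⟩
    letI : MulAction L S :=
      { smul := fun g w => ⟨g.1 • w.1, onLn_smul h g.2 w.2⟩
        one_smul := fun w => Subtype.ext (one_smul _ w.1)
        mul_smul := fun a b w => Subtype.ext (mul_smul a.1 b.1 w.1) }
    haveI : MulAction.IsPretransitive L S := ⟨by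
      have key : ∀ w : S, ∃ g : L, g • x₀ = w := fun w => by
        obtain ⟨g, hg⟩ := hline w.1 w.2
        exact ⟨g, Subtype.ext hg⟩
      intro v w
      obtain ⟨a, rfl⟩ := key v
      obtain ⟨b, rfl⟩ := key w
      exact ⟨b * a⁻¹, by rw [mul_smul, inv_smul_smul]⟩⟩
    have hker : ∀ k : L, k ∈ π.ker → ∀ w : S, k • w = w := by
      intro k hk w
      obtain ⟨lam, hlx, hly⟩ := (projHom_eq_one h H s k).1 hk
      refine Subtype.ext ?_
      show k.1 • w.1 = w.1
      obtain ⟨w, hw⟩ := w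
      induction w using Projectivization.ind with
      | h v hv =>
        refine (smul_mk_eq_iff k.1 hv hv).2 ⟨lam, ?_⟩
        rw [plane_dec h s ((onLn_mk hv).1 hw).2, mulVec_add, mulVec_smul, mulVec_smul, hlx, hly, smul_add,
          smul_comm, smul_comm lam (uh σ v x)]
    have hfix : ∀ w : S, ∀ k ∈ Q, k • w = w := by
      intro w k hk
      have hd : Nat.card (MulAction.orbit Q w) ∣ Nat.card S := by
        have := MulAction.IsBlock.ncard_dvd_card (MulAction.IsBlock.orbit_of_normal (G := L) (N := Q) w)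
          (Set.nonempty_of_mem (MulAction.mem_orbit_self w))
        rwa [← Nat.card_coe_set_eq] at this
      rw [show Nat.card S = q + 1 from card_line hF h s] at hd
      have hd2 : ∃ e, Nat.card (MulAction.orbit Q w) ∣ p ^ e := by
        obtain ⟨e, he⟩ := (IsPGroup.iff_card (p := p)).1 hQimg
        refine ⟨e, ?_⟩
        rw [← he, Nat.card_congr (MulAction.orbitEquivQuotientStabilizer Q w), ← Subgroup.index]
        let φ := π.domRestrict Q
        have h1 : φ.ker ≤ MulAction.stabilizer Q w := fun a ha => Subtype.ext (congrArg Subtype.val (hker a.1 ha w) :)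
        refine (Subgroup.index_dvd_of_le h1).trans ?_
        rw [Subgroup.index, Nat.card_congr (QuotientGroup.quotientKerEquivRange φ).toEquiv]
        refine dvd_of_eq (congrArg (fun K : Subgroup _ => Nat.card K) ?_)
        ext u
        simp [φ]
      obtain ⟨e, he⟩ := hd2
      obtain ⟨i, -, hi⟩ := (Nat.dvd_prime_pow hp).1 he
      have hi0 : i = 0 := by
        by_contra hi0
        exact hp.not_dvd_one ((Nat.dvd_add_right hpq).1 (((dvd_pow_self p hi0).trans (dvd_of_eq hi.symm)).trans hd))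
      rw [hi0, pow_zero] at hi
      haveI := (Nat.card_eq_one_iff_unique.1 hi).1
      exact congrArg Subtype.val (Subsingleton.elim (⟨k • w, ⟨⟨k, hk⟩, rfl⟩⟩ : MulAction.orbit Q w) ⟨w, MulAction.mem_orbit_self w⟩)
    have hcard : 2 < Nat.card S := by rw [show Nat.card S = q + 1 from card_line hF h s]; omega
    haveI := Fintype.ofFinite S
    rw [Nat.card_eq_fintype_card, Fintype.two_lt_card_iff] at hcard
    obtain ⟨w₁, w₂, w₃, d12, d13, d23⟩ := hcard
    have hfix' : ∀ w : S, g.1 • w.1 = w.1 := fun w => congrArg Subtype.val (hfix w g hgQ)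
    have h1 := scalar_of_three h s g w₁.2 w₂.2 w₃.2 (hfix' _) (hfix' _) (hfix' _)
        (fun e => d12 (Subtype.ext e)) (fun e => d13 (Subtype.ext e)) (fun e => d23 (Subtype.ext e))
    rw [hg] at h1
    have : r = 1 := Subtype.ext h1
    rw [this, orderOf_one] at hr
    exact hp.one_lt.ne hr
  · have h12 : Nat.card π.range = 12 := by
      rw [Nat.card_congr i.toEquiv, nat_card_alternatingGroup, Nat.card_fin]; decide
    exact Or.inr ⟨Or.inl h12, Or.inl (hCone hnp)⟩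
  · have h24 : Nat.card π.range = 24 := by
      rw [Nat.card_congr i.toEquiv, Nat.card_perm, Nat.card_fin]; decide
    exact Or.inr ⟨Or.inr (Or.inl h24), Or.inl (hCone hnp)⟩
  · have h60 : Nat.card π.range = 60 := by
      rw [Nat.card_congr i.toEquiv, nat_card_alternatingGroup, Nat.card_fin]; decide
    exact Or.inr ⟨Or.inr (Or.inr h60), hnp.imp hCone fun e => ⟨e, h60⟩⟩
  · exfalso
    haveI : Finite K := inferInstance
    obtain ⟨e, he, hK⟩ := card_subfield_group iso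
    obtain ⟨n, -, hKn⟩ : ∃ n, n ≤ 2 * f ∧ Nat.card K = p ^ n := by
      refine (Nat.dvd_prime_pow hp).1 ?_
      rw [show p ^ (2 * f) = Nat.card F by rw [hF, hqp, ← pow_mul, mul_comm]]
      exact AddSubgroup.card_addSubgroup_dvd_card K.toSubring.toAddSubgroup
    have hn0 : n ≠ 0 := fun e0 => by
      rw [e0, pow_zero] at hKn
      exact absurd hKn (Finite.one_lt_card (α := K)).ne'
    rw [hR, hca, hKn] at hK
    have hpe : ¬ p ∣ e := by
      rcases he with rfl | ⟨rfl, hodd⟩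
      · exact hp.not_dvd_one
      · intro h2
        obtain rfl := (Nat.prime_dvd_prime_iff_eq hp Nat.prime_two).1 h2
        rw [hKn] at hodd
        exact absurd hodd (Nat.not_odd_iff_even.2 (Nat.even_pow.2 ⟨even_two, hn0⟩))
    have hpn : p ∣ p ^ n := dvd_pow_self p hn0
    have hp1 : ¬ p ∣ (p ^ n + 1) * (p ^ n - 1) := by
      rw [hp.dvd_mul]
      rintro (h1 | h1)
      · exact hp.not_dvd_one ((Nat.dvd_add_right hpn).1 h1)
      · have h4 : p ^ n - (p ^ n - 1) = 1 := by have := Nat.one_le_pow n p hp.pos; omega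
        exact hp.not_dvd_one (h4 ▸ Nat.dvd_sub hpn h1)
    have key : ∀ u v k l : ℕ, ¬ p ∣ u → ¬ p ∣ v → u * p ^ k = v * p ^ l → k ≤ l := by
      intro u v k l hu hv huv
      have := dvd_of_eq huv |> (dvd_mul_left (p ^ k) u).trans
      rwa [Nat.Coprime.dvd_mul_left (((hp.coprime_iff_not_dvd).2 hv).pow_left k), Nat.pow_dvd_pow_iff_le_right hp.one_lt]
        at this
    have huv : e * ((q + 1) * j) * p ^ a = (p ^ n + 1) * (p ^ n - 1) * p ^ n := by linear_combination hK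
    have hej : ¬ p ∣ e * ((q + 1) * j) := by rw [hp.dvd_mul]; exact not_or_intro hpe hpj
    obtain rfl : a = n := le_antisymm (key _ _ _ _ hej hp1 huv) (key _ _ _ _ hp1 hej huv.symm)
    refine pow_add_one_not_dvd hp.two_le (Nat.pos_of_ne_zero hn0) haf' ?_
    have h5 := Nat.eq_of_mul_eq_mul_right (Nat.pow_pos hp.pos) huv
    rw [← hqp, show p ^ (2 * a) - 1 = (p ^ a + 1) * (p ^ a - 1) by rw [← Nat.sq_sub_sq, one_pow, ← pow_mul, mul_comm], ← h5]
    exact Dvd.dvd.mul_left (dvd_mul_right _ _) _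

end CfsgLib.MinIdx.U3
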