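import Cfsg.Agent.Lib.MinIdx.U3.Odd

/-!
# The smallest index in the three-dimensional group
-/

set_option autoImplicit false

namespace CfsgLib.MinIdx.U3

open Matrix CfsgLib.Classical CfsgLib.Classical.Unitary CfsgLib.MinIdx.Un

variable {F : Type*} [Field F] [Finite F] {σ : F →+* F} {q : ℕ}

/-- No proper subgroup has index below `q ^ 3 + 1`. -/
theorem index_bound (hF : Nat.card F = q ^ 2) (h : UFrob σ q) (hq : 3 ≤ q) (h5 : q ≠ 5)
    (H : Subgroup (Cfsg.SU 3 F q)) (hH : H ≠ ⊤) : q ^ 3 + 1 ≤ H.index := by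
  by_contra hlt
  obtain ⟨htr, hst⟩ := reduce hF h hq H hH (by omega)
  have hs : Small h H := ⟨htr, fun s => (hst _ _ _ s).1, fun s => (hst _ _ _ s).2.1, fun s => (hst _ _ _ s).2.2⟩
  obtain ⟨v, hv0, hvv⟩ := exists_iso_vector (m := 3) h (by omega)
  obtain ⟨y, P, s⟩ := exists_split (m := 1) h hv0 hvv
  haveI := Fintype.ofFinite F
  obtain ⟨p, hchar⟩ := CharP.exists F
  obtain ⟨⟨n, hn⟩, hp, hcard⟩ := FiniteField.card F p
  haveI : Fact p.Prime := ⟨hp⟩
  have hq2 : q ∣ p ^ n := by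
    rw [← show Fintype.card F = p ^ n from hcard, ← Nat.card_eq_fintype_card, hF]
    exact dvd_pow_self q two_ne_zero
  obtain ⟨f, -, hqp⟩ := (Nat.dvd_prime_pow hp).1 hq2
  rcases eq_or_ne p 2 with hp2 | hp2
  · refine even_false (p := p) (f := f) hF h ?_ hp2 hqp hs s
    subst hp2 hqp
    rcases f with - | - | f
    · omega
    · omega
    · rw [pow_add]; have := Nat.one_le_pow f 2 two_pos; omega
  · exact odd_false (p := p) (f := f) hF h hq h5 hp2 hqp hs s

end CfsgLib.MinIdx.U3
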