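import Cfsg.Agent.Lib.MinIdx.U3.Even

/-!
# Odd characteristic
-/

set_option autoImplicit false

namespace CfsgLib.MinIdx.U3

open Matrix CfsgLib.Classical CfsgLib.Classical.Unitary CfsgLib.MinIdx.Un
open scoped LinearAlgebra.Projectivization

variable {F : Type*} [Field F] [Finite F] {σ : F →+* F} {q : ℕ} {x y : Fin 3 → F}
  {P : Matrix (Fin 3) (Fin 1) F}

omit [Finite F] in
/-- A transversal element can be moved into the group of the secant line. -/
theorem lift_stU (h : UFrob σ q) (h2 : (2 : F) ≠ 0) {k : ℕ} (hk : 2 * (k : F) = 1)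
    {H : Subgroup (Cfsg.SU 3 F q)} (s : Split σ 1 x y P) {τ : Cfsg.SU 3 F q} (hτ : τ ∈ H)
    (hτx : τ.1.1 *ᵥ x = -x) (hτy : τ.1.1 *ᵥ y = -y) (hτu : τ.1.1 *ᵥ uv P = uv P)
    {g : Cfsg.SU 3 F q} (hg : g ∈ H) (hgx : τ.1.1 *ᵥ (g.1.1 *ᵥ x) = -(g.1.1 *ᵥ x)) :
    ∃ g' ∈ stU H (uv P), g'.1.1 *ᵥ x = g.1.1 *ᵥ x := by
  have hττ : τ * τ = 1 := fix_pair h s (by rw [su_mul_mulVec, hτx, mulVec_neg, hτx, neg_neg])
    (by rw [su_mul_mulVec, hτy, mulVec_neg, hτy, neg_neg])
  have hτi : τ⁻¹ = τ := inv_eq_of_mul_eq_one_left hττ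
  have hc : ∀ {a c : F}, Ok σ x (a • uv P) c → Ok σ x ((-a) • uv P) c ∧
      τ * ue h x (a • uv P) c * τ = ue h x ((-a) • uv P) c := by
    intro a c hac
    obtain ⟨o, e⟩ := conj_torus h s (α := -1) (by rw [neg_one_smul]; exact hτx)
      (by rw [map_neg, map_one, div_self (neg_ne_zero.2 one_ne_zero), one_smul]; exact hτu)
      (neg_ne_zero.2 one_ne_zero) hac
    rw [hτi, show mu σ (-1 : F) * a = -a by simp [mu], show (-1 : F) * σ (-1) * c = c by simp] at e
    rw [show mu σ (-1 : F) * a = -a by simp [mu], show (-1 : F) * σ (-1) * c = c by simp] at o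
    exact ⟨o, e⟩
  obtain ⟨e, he⟩ : ∃ e, e = g⁻¹ * τ * g * τ := ⟨_, rfl⟩
  obtain ⟨a, c, hac, hea⟩ := fix_x h s (g := e) (by
    rw [he, su_mul_mulVec, hτx, su_mul_mulVec, su_mul_mulVec, mulVec_neg, mulVec_neg, hgx, neg_neg,
      su_inv_mulVec])
  have heH : e ∈ H := he ▸ H.mul_mem (H.mul_mem (H.mul_mem (H.inv_mem hg) hτ) hg) hτ
  obtain ⟨hneg, eneg⟩ := hc hac
  have h1 : ue h x (a • uv P) c * ue h x ((-a) • uv P) c = 1 := by
    rw [← eneg, ← hea, he]
    calc _ = g⁻¹ * τ * (g * (τ * τ) * g⁻¹) * τ * g * (τ * τ) := by group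
      _ = 1 := by
        simp only [hττ, mul_one, mul_inv_cancel]
        rw [mul_assoc g⁻¹ τ τ, hττ, mul_one, inv_mul_cancel]
  rw [hac.mul h hneg, ← add_smul, add_neg_cancel, zero_smul, ← ue_one h x] at h1
  have hc0 : c + c + a * σ a = 0 := by
    have o := hac.add h hneg
    rw [← add_smul, add_neg_cancel] at o
    have h3 := (ue_inj h s o (b := 0) (d := 0) (by rw [zero_smul]; exact Ok.zero s.xx (by simp))
      (by rw [zero_smul]; exact h1)).2
    rw [uh_smul_left, uh_smul_right, uv_self h s] at h3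
    simp only [map_neg, mul_one] at h3
    linear_combination h3
  have ha : a ∈ rts h H x P := (mem_rts h s).2 ⟨c, hac, hea ▸ heH⟩
  have hb := (rts h H x P).nsmul_mem ha k
  rw [nsmul_eq_mul] at hb
  obtain ⟨d, hd, hdm⟩ := (mem_rts h s).1 hb
  refine ⟨g * ue h x (((k : F) * a) • uv P) d, ?_, by rw [su_mul_mulVec, ue_x h s hd]⟩
  obtain ⟨v, hv⟩ : ∃ v, v = ue h x (((k : F) * a) • uv P) d := ⟨_, rfl⟩
  rw [← hv] at hdm ⊢
  have hev : e = v * (τ * v⁻¹ * τ) := by
    rw [hea, hv, hd.inv h]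
    have o := hd.inv_ok h
    rw [← neg_smul] at o ⊢
    obtain ⟨o', e'⟩ := hc o
    rw [e', hd.mul h o', ← add_smul, neg_neg]
    congr 1
    · congr 1
      linear_combination -a * hk
    · rw [uh_smul_left, uh_smul_right, uv_self h s]
      have hd' := (ok_iff h s).1 hd
      simp only [map_mul, map_natCast, mul_one] at hd' ⊢
      linear_combination (k : F) * hc0 - hd' - (c - (k : F) * a * σ a) * hk
  have hcomm : τ * (g * v) = g * v * τ := by
    rw [he] at hev
    calc τ * (g * v) = g * (g⁻¹ * τ * g * τ) * τ⁻¹ * v := by group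
      _ = g * (v * (τ * v⁻¹ * τ)) * τ⁻¹ * v := by rw [hev]
      _ = g * v * τ := by group
  refine ⟨H.mul_mem hg hdm, ?_⟩
  obtain ⟨w, hw⟩ : ∃ w, w = (g * v).1.1 *ᵥ uv P := ⟨_, rfl⟩
  have hτw : τ.1.1 *ᵥ w = w := by rw [hw, ← su_mul_mulVec, hcomm, su_mul_mulVec, hτu]
  have hperp : ∀ z, τ.1.1 *ᵥ z = -z → uh σ w z = 0 := fun z hz => by
    have h3 := su_uh h τ w z
    rw [hτw, hz, ← neg_one_smul F z, uh_smul_right, map_neg, map_one, neg_one_mul] at h3
    exact (mul_eq_zero.1 (show (2 : F) * uh σ w z = 0 by linear_combination -h3)).resolve_left h2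
  have hdec := dec3 h s w
  rw [hperp y hτy, hperp x hτx, zero_smul, zero_smul, zero_add, zero_add] at hdec
  refine ⟨Units.mk0 (uh σ w (uv P)) fun e0 => ?_, by rw [← hw]; exact hdec.symm⟩
  rw [e0, zero_smul] at hdec
  have hu0 : uv P = 0 := by rw [← su_inv_mulVec (g * v) (uv P), ← hw, ← hdec, mulVec_zero]
  have h4 := uv_self h s
  rw [hu0, uh_zero_left] at h4
  exact zero_ne_one h4

/-- A split pair adapted to an involution. -/
theorem exists_invol_split (hF : Nat.card F = q ^ 2) (h : UFrob σ q) (h2 : (2 : F) ≠ 0) (hq : Odd q)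
    {H : Subgroup (Cfsg.SU 3 F q)} (hs : Small h H) (s : Split σ 1 x y P) :
    ∃ (x' y' : Fin 3 → F) (P' : Matrix (Fin 3) (Fin 1) F) (τ : Cfsg.SU 3 F q),
      Split σ 1 x' y' P' ∧ τ ∈ H ∧ τ.1.1 *ᵥ x' = -x' ∧ τ.1.1 *ᵥ y' = -y' ∧ τ.1.1 *ᵥ uv P' = uv P' := by
  have h2H : 2 ∣ Nat.card H := by
    rw [hs.card hF h s]
    exact Dvd.dvd.mul_right (even_iff_two_dvd.1 ((hq.pow).add_one)) _
  haveI : Fact (Nat.Prime 2) := ⟨Nat.prime_two⟩
  obtain ⟨t, ht⟩ := exists_prime_orderOf_dvd_card' 2 h2H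
  have htt : t.1 * t.1 = 1 := by
    have h1 := pow_orderOf_eq_one t
    rw [ht, sq] at h1
    exact congrArg Subtype.val h1
  have ht1 : t.1 ≠ 1 := fun e => by
    rw [show t = 1 from Subtype.ext e, orderOf_one] at ht
    norm_num at ht
  obtain ⟨v, hvv, hv1, hneg⟩ := invol_odd h h2 htt ht1
  obtain ⟨Q, hQ, hQv, -⟩ := exists_frame_perp (k := 2) h hvv
  have hperp : ∀ a, uh σ (Q *ᵥ a) v = 0 := fun a => by rw [uh_frame_left h, hQv, uh_zero_right]
  obtain ⟨a, ha0, haa⟩ := exists_iso_vector (m := 2) h le_rfl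
  obtain ⟨b, P2, s2⟩ := exists_split (m := 0) h ha0 haa
  obtain ⟨P', s'⟩ := exists_split_pair (m := 1) h (x := Q *ᵥ a) (y := Q *ᵥ b)
    (by rw [uh_frame_left h, hQ.apply, haa]) (by rw [uh_frame_left h, hQ.apply, s2.yy])
    (by rw [uh_frame_left h, hQ.apply, s2.xy])
  refine ⟨_, _, P', t.1, s', t.2, hneg _ (hperp a), hneg _ (hperp b), ?_⟩
  have hvu : v = uh σ v (uv P') • uv P' := by
    have h1 := dec3 h s' v
    rw [h.swap_zero (hperp a), h.swap_zero (hperp b), zero_smul, zero_smul, zero_add, zero_add] at h1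
    exact h1.symm
  have hc : uh σ v (uv P') ≠ 0 := fun e => hvv (by rw [hvu, e, zero_smul, uh_zero_left])
  refine smul_right_injective _ hc ?_
  show uh σ v (uv P') • t.1.1.1 *ᵥ uv P' = uh σ v (uv P') • uv P'
  rw [← mulVec_smul, ← hvu, hv1]

variable {p f : ℕ} [Fact p.Prime] [CharP F p]

omit [Finite F] in
theorem exists_half (hp : p ≠ 2) : ∃ k : ℕ, 2 * (k : F) = 1 := by
  obtain ⟨i, hi⟩ := (Fact.out : p.Prime).odd_of_ne_two hp
  refine ⟨i + 1, ?_⟩
  have h1 := CharP.cast_eq_zero F p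
  rw [hi] at h1
  push_cast at h1 ⊢
  linear_combination h1

omit [Finite F] in
theorem two_ne (hp : p ≠ 2) : (2 : F) ≠ 0 := fun e => hp ((Nat.prime_dvd_prime_iff_eq Fact.out Nat.prime_two).1
  ((CharP.cast_eq_zero_iff F p 2).1 (by exact_mod_cast e)))

/-- The point stabilizer orders are all equal. -/
theorem Small.dsz_eq (hF : Nat.card F = q ^ 2) (h : UFrob σ q) {H : Subgroup (Cfsg.SU 3 F q)} (hs : Small h H)
    (s : Split σ 1 x y P) {x' y' : Fin 3 → F} {P' : Matrix (Fin 3) (Fin 1) F} (s' : Split σ 1 x' y' P') :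
    dsz h H x' P' = dsz h H x P :=
  Nat.eq_of_mul_eq_mul_left (Nat.succ_pos _) ((hs.card hF h s').symm.trans (hs.card hF h s))

omit [CharP F p] in
/-- The roots of a group with trivial centres are collinear over the fixed field. -/
theorem rts_real (h : UFrob σ q) {H : Subgroup (Cfsg.SU 3 F q)} (s : Split σ 1 x y P) (hC : ctr h H x = ⊥)
    {a b : F} (ha : a ∈ rts h H x P) (hb : b ∈ rts h H x P) : a * σ b = b * σ a := by
  obtain ⟨c, hc, hm⟩ := (mem_rts h s).1 ha
  obtain ⟨d, hd, hm'⟩ := (mem_rts h s).1 hb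
  have hcomm : ue h x (a • uv P) c * ue h x (b • uv P) d = ue h x (b • uv P) d * ue h x (a • uv P) c := by
    obtain ⟨E, hE, eE⟩ := conj_comm h hd hc
    have o := hd.inv_ok h
    have hX : ue h x (a • uv P) c * ue h x (b • uv P) d * (ue h x (a • uv P) c)⁻¹ * (ue h x (b • uv P) d)⁻¹ ∈ H :=
      H.mul_mem (H.mul_mem (H.mul_mem hm hm') (H.inv_mem hm)) (H.inv_mem hm')
    obtain ⟨K, hK, eK⟩ : ∃ K, Ok σ x ((0 : F) • uv P) K ∧
        ue h x (a • uv P) c * ue h x (b • uv P) d * (ue h x (a • uv P) c)⁻¹ * (ue h x (b • uv P) d)⁻¹ =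
          ue h x ((0 : F) • uv P) K := by
      rw [hc.inv h, hd.inv h]
      have o1 := hc.add h hd
      have o2 := o1.add h (hc.inv_ok h)
      have o3 := o2.add h o
      rw [← neg_smul, ← neg_smul, ← add_smul, ← add_smul, ← add_smul,
        show a + b + -a + -b = (0 : F) by ring] at o3
      refine ⟨_, o3, ?_⟩
      rw [hc.mul h hd, o1.mul h (hc.inv_ok h), o2.mul h o]
      congr 1
      · rw [← neg_smul, ← neg_smul, ← add_smul, ← add_smul, ← add_smul, show a + b + -a + -b = (0 : F) by ring]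
      · simp only [neg_smul, add_smul]
    rw [zero_smul] at hK eK
    rw [eK] at hX
    have hK0 : (⟨K, by
        have h1 := hK.2.2
        rw [uh_zero_left, add_zero] at h1
        exact h1⟩ : Sk σ) ∈ ctr h H x := (mem_ctr h s.xx).2 hX
    rw [hC, AddSubgroup.mem_bot] at hK0
    rw [show K = 0 from congrArg Subtype.val hK0, ue_one, mul_inv_eq_one, mul_inv_eq_iff_eq_mul] at eK
    exact eK
  rw [hc.mul h hd, hd.mul h hc, add_comm (b • uv P)] at hcomm
  have o := hc.add h hd
  have o' := hd.add h hc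
  rw [add_comm (b • uv P)] at o'
  rw [← add_smul] at o o' hcomm
  have h1 := (ue_inj h s o o' hcomm).2
  rw [uh_smul_left, uh_smul_left, uh_smul_right, uh_smul_right, uv_self h s] at h1
  first
    | linear_combination h1
    | linear_combination -h1

/-- The case `q = 11`. -/
theorem eleven_false (hF : Nat.card F = 11 ^ 2) (h : UFrob σ 11) [CharP F 11] {H : Subgroup (Cfsg.SU 3 F 11)}
    (hs : Small h H) (s : Split σ 1 x y P) (h2 : (2 : F) ≠ 0) (hD : dsz h H x P = 330)
    (hC : ctr h H x = ⊥) {ω : Fˣ} (hω : ω ∈ scalars H x) (hω3 : orderOf ω = 3) : False := by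
  classical
  haveI : Fact (Nat.Prime 37) := ⟨by norm_num⟩
  haveI : Fact (Nat.Prime 11) := ⟨by norm_num⟩
  have hH : Nat.card H = 37 * 11880 := by rw [hs.card hF h s, hD]; norm_num
  have hdd : ∀ (x' y' : Fin 3 → F) (P' : Matrix (Fin 3) (Fin 1) F), Split σ 1 x' y' P' → dsz h H x' P' = 330 :=
    fun x' y' P' s' => (hs.dsz_eq hF h s s').trans hD
  obtain ⟨g, n, hg, hnM, hnr, hN⟩ := sylow_step (r := 37) hH (by norm_num)
  obtain ⟨N, hNdef⟩ : ∃ N, N = Subgroup.normalizer (Subgroup.zpowers g : Set H) := ⟨_, rfl⟩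
  have hodd : ¬ 2 ∣ Nat.card N := hNdef ▸ normalizer_odd hF h (r := 37) (by norm_num) (by norm_num)
    (fun x' y' P' s' => by rw [hdd x' y' P' s']; norm_num) (fun t _ htt ht1 => reflects_odd h h2 htt ht1) hg
  rw [← hNdef] at hN
  have hn : n = 3960 := by
    have hcases : ∀ n ∈ Nat.divisors 11880, n % 37 = 1 → n ≠ 3960 → 2 ∣ 37 * 11880 / n := by decide +kernel
    by_contra hne
    have h1 := hcases n (Nat.mem_divisors.2 ⟨hnM, by norm_num⟩) (by rw [hnr]) hne
    rw [← hN, Nat.mul_div_cancel _ (Nat.pos_of_dvd_of_pos hnM (by norm_num))] at h1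
    exact hodd h1
  subst hn
  have hN' : Nat.card N = 111 := by omega
  -- a central element of order three
  obtain ⟨k, hk, hkx⟩ := hω
  have hω3' : (ω : F) ^ 3 = 1 := by
    rw [← Units.val_pow_eq_pow_val, ← hω3, pow_orderOf_eq_one, Units.val_one]
  have hωσ : (ω : F) * σ ω = 1 := by
    rw [h.pow, ← pow_succ', show 11 + 1 = 3 * 4 from rfl, pow_mul, hω3', one_pow]
  obtain ⟨Z, hZ⟩ : ∃ Z : Cfsg.SU 3 F 11, ∀ v, Z.1.1 *ᵥ v = (ω : F) • v := by
    obtain ⟨K, hKx, hKy, hKu⟩ := exists_torus h s ω.ne_zero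
    refine ⟨K, fun v => ?_⟩
    have hσω : σ (ω : F) = (ω : F)⁻¹ := eq_inv_of_mul_eq_one_right hωσ
    rw [hσω, inv_inv] at hKy
    rw [hσω, show ((ω : F)⁻¹ / (ω : F)) = (ω : F) by
      field_simp
      linear_combination -hω3'] at hKu
    conv_lhs => rw [← dec3 h s v]
    conv_rhs => rw [← dec3 h s v]
    simp only [mulVec_add, mulVec_smul, hKx, hKy, hKu, smul_add, smul_comm (ω : F)]
  have hZc : ∀ w : Cfsg.SU 3 F 11, Z * w = w * Z := fun w => su_ext fun v => by
    rw [su_mul_mulVec, su_mul_mulVec, hZ, hZ, mulVec_smul]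
  have hZ3 : Z ^ 3 = 1 := su_ext fun v => by
    rw [pow_succ, pow_succ, pow_one, su_mul_mulVec, su_mul_mulVec, hZ, hZ, hZ, smul_smul, smul_smul, ← pow_three',
      hω3', one_smul, su_one_mulVec]
  have hZH : Z ∈ H := by
    obtain ⟨a, c, hac, hv⟩ := fix_x h s (g := Z⁻¹ * k) (by rw [su_mul_mulVec, hkx]; exact inv_move (hZ x))
    have h1 := H.pow_mem hk (11 ^ 2)
    rwa [show k = Z * ue h x (a • uv P) c by rw [← hv, mul_inv_cancel_left], (show Commute Z _ from hZc _).mul_pow,
      ue_pow_char h s hac (CharP.cast_eq_zero F 11), mul_one, show 11 ^ 2 = 3 * 40 + 1 from rfl, pow_succ,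
      pow_mul, hZ3, one_pow, one_mul] at h1
  have hZ1 : Z ≠ 1 := fun e => by
    have h1 : ω = 1 := Units.ext (scalar_unique s.x_ne (by rw [← hZ, e, su_one_mulVec, Units.val_one, one_smul]))
    rw [h1, orderOf_one] at hω3
    norm_num at hω3
  obtain ⟨z, hz⟩ : ∃ z : H, z.1 = Z := ⟨⟨Z, hZH⟩, rfl⟩
  have hzc : ∀ w : H, Commute z w := fun w => Subtype.ext (by
    show z.1 * w.1 = w.1 * z.1
    rw [hz]; exact hZc _)
  have hzo : orderOf z = 3 := by
    refine orderOf_eq_prime (Subtype.ext ?_) fun e => hZ1 ?_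
    · show z.1 ^ 3 = 1
      rw [hz, hZ3]
    · rw [← hz, e]; rfl
  have hzN : z ∈ N := by
    rw [hNdef, Subgroup.mem_normalizer_iff]
    intro w
    rw [(hzc w).eq, mul_inv_cancel_right]
  have hgN : g ∈ N := hNdef ▸ Subgroup.le_normalizer (Subgroup.mem_zpowers g)
  have hNcyc : N = Subgroup.zpowers (g * z) := by
    refine (Subgroup.eq_of_le_of_card_ge (Subgroup.zpowers_le.2 (N.mul_mem hgN hzN)) ?_).symm
    rw [hN', Nat.card_zpowers, ((hzc g).symm).orderOf_mul_eq_mul_orderOf_of_coprime (by rw [hg, hzo]; norm_num),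
      hg, hzo]
  have hgc : ∀ w ∈ N, Commute g w := by
    intro w hw
    rw [hNcyc] at hw
    obtain ⟨i, rfl⟩ := Subgroup.mem_zpowers_iff.1 hw
    exact ((Commute.refl g).mul_right (hzc g).symm).zpow_right i
  let S : Sylow 37 H := Sylow.ofCard (Subgroup.zpowers g) (by
    rw [Nat.card_zpowers, hg, hH, Nat.factorization_mul (by norm_num) (by norm_num), Finsupp.add_apply,
      (Fact.out : Nat.Prime 37).factorization_self, Nat.factorization_eq_zero_of_not_dvd (by norm_num)]
    norm_num)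
  have hS : Subgroup.normalizer ((S : Subgroup H) : Set H) ≤ Subgroup.centralizer ((S : Subgroup H) : Set H) := by
    intro w hw
    rw [Subgroup.mem_centralizer_iff]
    intro v hv
    obtain ⟨i, rfl⟩ := Subgroup.mem_zpowers_iff.1 (show v ∈ Subgroup.zpowers g from hv)
    exact ((hgc w (hNdef ▸ hw)).zpow_left i).eq
  obtain ⟨M, hMdef⟩ : ∃ M, M = (MonoidHom.transferSylow S hS).ker := ⟨_, rfl⟩
  have hSc : Nat.card (S : Subgroup H) = 37 := (Nat.card_zpowers g).trans hg
  have hM : Nat.card M = 11880 := by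
    have h1 := (MonoidHom.ker_transferSylow_isComplement' S hS).card_mul_card
    rw [← hMdef, hH, hSc] at h1
    omega
  have hmem : ∀ w : H, w ^ 11 = 1 → w ∈ M := fun w hw => by
    rw [hMdef, MonoidHom.mem_ker, ← orderOf_eq_one_iff]
    have h1 : orderOf (MonoidHom.transferSylow S hS w) ∣ 11 :=
      orderOf_dvd_of_pow_eq_one (by rw [← map_pow, hw, map_one])
    exact Nat.eq_one_of_dvd_coprimes (by norm_num : Nat.Coprime 11 37) h1 ((orderOf_dvd_natCard _).trans (dvd_of_eq hSc))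
  -- a root element at every point
  have hroot : ∀ w : IsoPts σ, ∃ e : M, e ^ 11 = 1 ∧ e ≠ 1 ∧ e.1.1 • w.1 = w.1 ∧
      ∀ w' : IsoPts σ, e.1.1 • w'.1 = w'.1 → w' = w := by
    rintro ⟨w, hw⟩
    induction w using Projectivization.ind with
    | h v hv =>
      obtain ⟨y', P', s'⟩ := exists_split (m := 1) h hv ((isoP_mk hv).1 hw)
      have hA : rts h H v P' ≠ ⊥ := fun e => by
        obtain ⟨hC', hT⟩ := hs.bot s' e
        have h1 := hdd _ _ _ s'
        rw [dsz, e, hC', hT, AddSubgroup.card_bot, AddSubgroup.card_bot, Subgroup.card_top, card_units_sq hF] at h1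
        norm_num at h1
      obtain ⟨a, c, hac, hm, hne⟩ := root_ne_one h s' hA
      have hC' : ctr h H v = ⊥ := by
        by_contra hne'
        obtain ⟨r, hr, hr0, hrH⟩ := hs.ctr_move h s' hne' s.x_ne s.xx
        have : (⟨r, hr0⟩ : Sk σ) ∈ ctr h H x := (mem_ctr h s.xx).2 hrH
        rw [hC, AddSubgroup.mem_bot] at this
        exact hr (congrArg Subtype.val this)
      have h11 : ue h v (a • uv P') c ^ 11 = 1 := by
        obtain ⟨d, hd, e, -⟩ := ue_pow h s' hac 11
        rw [show ((11 : ℕ) : F) = 0 from CharP.cast_eq_zero F 11, zero_mul, zero_smul] at e hd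
        have hd' : (⟨d, by
            have h1 := hd.2.2
            rw [uh_zero_left, add_zero] at h1
            exact h1⟩ : Sk σ) ∈ ctr h H v := (mem_ctr h s'.xx).2 (e ▸ H.pow_mem hm 11)
        rw [hC', AddSubgroup.mem_bot] at hd'
        rw [e, show d = 0 from congrArg Subtype.val hd', ue_one]
      refine ⟨⟨⟨_, hm⟩, hmem _ (Subtype.ext h11)⟩, Subtype.ext (Subtype.ext h11),
        fun e => hne (congrArg (fun t : M => t.1.1) e), ?_, ?_⟩
      · exact (smul_ptX_iff s' _).2 ⟨1, by rw [Units.val_one, one_smul]; exact ue_x h s' hac⟩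
      · rintro ⟨w', hw'⟩ hfix
        induction w' using Projectivization.ind with
        | h v' hv' =>
          by_contra hne'
          obtain ⟨r, hr⟩ := (smul_mk_eq_iff _ hv' hv').1 hfix
          exact hne (ue_only_fix h s' hac hv' ((isoP_mk hv').1 hw')
            (fun t e => hne' (Subtype.ext ((eq_ptX_iff s' hv').2 ⟨t, e⟩))) hr)
  choose e he11 he1 hefix heonly using hroot
  have ho : ∀ w, orderOf (e w) = 11 := fun w => orderOf_eq_prime (he11 w) (he1 w)
  let Φ : IsoPts σ → Sylow 11 M := fun w => Sylow.ofCard (Subgroup.zpowers (e w)) (by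
    rw [Nat.card_zpowers, ho, hM, show 11880 = 11 * 1080 from rfl, Nat.factorization_mul (by norm_num) (by norm_num),
      Finsupp.add_apply, (Fact.out : Nat.Prime 11).factorization_self,
      Nat.factorization_eq_zero_of_not_dvd (by norm_num)]
    norm_num)
  have hΦ : Function.Injective Φ := fun w w' eq => by
    have h1 : Subgroup.zpowers (e w) = Subgroup.zpowers (e w') := congrArg Sylow.toSubgroup eq
    have h3 : e w ∈ Subgroup.zpowers (e w') := h1 ▸ Subgroup.mem_zpowers _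
    obtain ⟨i, hi⟩ := Subgroup.mem_zpowers_iff.1 h3
    refine (heonly w w' ?_).symm
    rw [← hi]
    show ((e w' ^ i : M) : H).1 • w'.1 = w'.1
    rw [SubgroupClass.coe_zpow, SubgroupClass.coe_zpow]
    exact MulAction.mem_stabilizer_iff.1
      ((MulAction.stabilizer _ _).zpow_mem (MulAction.mem_stabilizer_iff.2 (hefix w')) i)
  have h1 := Nat.card_le_card_of_injective Φ hΦ
  rw [card_isoPts hF h] at h1
  obtain ⟨Q⟩ := (inferInstance : Nonempty (Sylow 11 M))
  have hQ : Nat.card (Q : Subgroup M) = 11 := by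
    rw [Q.card_eq_multiplicity, hM, show 11880 = 11 * 1080 from rfl,
      Nat.factorization_mul (by norm_num) (by norm_num), Finsupp.add_apply,
      (Fact.out : Nat.Prime 11).factorization_self, Nat.factorization_eq_zero_of_not_dvd (by norm_num)]
    norm_num
  have h3 := Q.card_dvd_index
  have h4 := (Q : Subgroup M).index_mul_card
  rw [hQ, hM] at h4
  have h5 : (Q : Subgroup M).index = 1080 := by omega
  rw [h5] at h3
  have := Nat.le_of_dvd (by norm_num) h3
  omega

omit [Fact p.Prime] [CharP F p] in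
theorem dvd_small {d n : ℕ} (hn : n ≠ 0) (hd : d ∣ n) : d ∈ Nat.divisors n := Nat.mem_divisors.2 ⟨hd, hn⟩

/-- Odd characteristic. -/
theorem odd_false (hF : Nat.card F = q ^ 2) (h : UFrob σ q) (hq : 3 ≤ q) (h5 : q ≠ 5) (hp : p ≠ 2) (hqp : q = p ^ f)
    {H : Subgroup (Cfsg.SU 3 F q)} (hs : Small h H) (s₀ : Split σ 1 x y P) : False := by
  classical
  have h2 : (2 : F) ≠ 0 := two_ne (p := p) hp
  have hp' : p.Prime := Fact.out
  have hp3 : 3 ≤ p := by have := hp'.two_le; omega
  have hodd : Odd q := hqp ▸ (hp'.odd_of_ne_two hp).pow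
  obtain ⟨x, y, P, τ, s, hτ, hτx, hτy, hτu⟩ := exists_invol_split hF h h2 hodd hs s₀
  obtain ⟨k, hk⟩ := exists_half (F := F) (p := p) hp
  have hlift : ∀ g ∈ H, τ.1.1 *ᵥ (g.1.1 *ᵥ x) = -(g.1.1 *ᵥ x) →
      ∃ g' ∈ stU H (uv P), g'.1.1 *ᵥ x = g.1.1 *ᵥ x :=
    fun g hg e => lift_stU h h2 hk s hτ hτx hτy hτu hg e
  have hline : ∀ w : ℙ F (Fin 3 → F), OnLn σ (uv P) w → w ∈ MulAction.orbit (stU H (uv P)) (ptX s) := by
    intro w hw
    induction w using Projectivization.ind with
    | h v hv =>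
      obtain ⟨hvv, hvu⟩ := (onLn_mk hv).1 hw
      obtain ⟨g, hg⟩ := hs.trans (ptX s) (Projectivization.mk F v hv) ((isoP_mk _).2 s.xx) ((isoP_mk hv).2 hvv)
      have hg' : g.1 • ptX s = Projectivization.mk F v hv := hg
      rw [ptX, smul_mk_eq_iff g.1 s.x_ne hv] at hg'
      obtain ⟨r, hr⟩ := hg'
      obtain ⟨g', hg'm, hg'x⟩ := hlift g.1 g.2 (by
        rw [hr, mulVec_smul]
        conv_lhs => rw [plane_dec h s hvu, mulVec_add, mulVec_smul, mulVec_smul, hτx, hτy]
        conv_rhs => rw [plane_dec h s hvu]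
        module)
      exact ⟨⟨g', hg'm⟩, (smul_mk_eq_iff g' s.x_ne hv).2 ⟨r, hg'x.trans hr⟩⟩
  have hsc : scalars (stU H (uv P)) x = scalars H x := by
    refine le_antisymm (fun α ⟨g, hg, e⟩ => ⟨g, hg.1, e⟩) fun α ⟨g, hg, e⟩ => ?_
    obtain ⟨g', hg'm, hg'x⟩ := hlift g hg (by rw [e, mulVec_smul, hτx, smul_neg])
    exact ⟨g', hg'm, hg'x.trans e⟩
  have hneg : (-1 : Fˣ) ∈ scalars H x := ⟨τ, hτ, by rw [hτx]; simp⟩
  have h2T : 2 ∣ Nat.card (scalars H x) := by
    have h1 := Subgroup.orderOf_dvd_natCard _ hneg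
    rwa [orderOf_eq_prime (p := 2) (by simp) fun e => h2 (by
      have h3 := congrArg Units.val e
      rw [Units.val_neg, Units.val_one] at h3
      linear_combination -h3)] at h1
  obtain ⟨j, hj1, hjT, hcase⟩ := line_cases hF h hq hqp s (hs.ctr_ne s) hline
  rw [show norms σ (stU H (uv P)) x = norms σ H x by rw [norms, norms, hsc]] at hj1
  rw [hsc] at hjT
  have hjpos : 0 < j := Nat.pos_of_dvd_of_pos hjT Nat.card_pos
  have hbig := hs.big s
  rw [dsz] at hbig
  have hdd : ∀ (x' y' : Fin 3 → F) (P' : Matrix (Fin 3) (Fin 1) F), Split σ 1 x' y' P' → dsz h H x' P' = dsz h H x P :=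
    fun x' y' P' s' => hs.dsz_eq hF h s s'
  have href : ∀ t : Cfsg.SU 3 F q, t ∈ H → t * t = 1 → t ≠ 1 → Reflects σ t :=
    fun t _ htt ht1 => reflects_odd h h2 htt ht1
  obtain ⟨β, hβ⟩ := IsCyclic.exists_generator (α := scalars H x)
  have ht : orderOf (β : Fˣ) = Nat.card (scalars H x) := by
    rw [Subgroup.orderOf_coe, orderOf_eq_card_of_forall_mem_zpowers hβ]
  have hν : orderOf (normU σ (β : Fˣ)) ∣ Nat.card (norms σ H x) :=
    Subgroup.orderOf_dvd_natCard _ (Subgroup.mem_map_of_mem _ β.2)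
  have hm : orderOf (muU σ (β : Fˣ)) ∣ Nat.card (rts h H x P) - 1 :=
    (Subgroup.orderOf_dvd_natCard _ (Subgroup.mem_map_of_mem _ β.2)).trans (mu_dvd h s)
  have hTq : Nat.card (scalars H x) ∣ q ^ 2 - 1 := card_units_sq hF ▸ Subgroup.card_subgroup_dvd_card _
  have hAle : Nat.card (rts h H x P) ≤ q := rts_card_le hF h s (hs.ctr_ne s)
  have hAdvd : Nat.card (rts h H x P) ∣ q ^ 2 := hF ▸ AddSubgroup.card_addSubgroup_dvd_card _
  have hv1 : ∀ u : F, σ u = u ^ q := h.pow
  by_cases hC : ctr h H x = ⊥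
  · rw [hC, AddSubgroup.card_bot] at hbig hcase
    rw [mul_one] at hbig
    rw [one_mul] at hcase
    by_cases hA : rts h H x P = ⊥
    · -- only the torus
      have hT := (hs.bot s hA).2
      have hTc : Nat.card (scalars H x) = q ^ 2 - 1 := by rw [hT, Subgroup.card_top, card_units_sq hF]
      have h1 := card_scalars_le hF h H x
      rw [hTc] at h1
      have hq1 : q - 1 ≤ Nat.card (norms σ H x) := by
        refine Nat.le_of_mul_le_mul_left (le_trans (le_of_eq ?_) h1) (Nat.succ_pos q)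
        obtain ⟨i, rfl⟩ : ∃ i, q = i + 1 := ⟨q - 1, by omega⟩
        rw [Nat.add_sub_cancel]
        have : (i + 1) ^ 2 = (i + 1 + 1) * i + 1 := by ring
        omega
      have hq3 : q = 3 := by
        rcases hcase with hle | ⟨he, -⟩
        · omega
        · have h60 : (q + 1) * (q - 1) ≤ 60 :=
            (Nat.mul_le_mul_left _ (hq1.trans hj1)).trans (by omega)
          have hq7 : q ≤ 7 := by
            by_contra h8
            have := Nat.mul_le_mul (show 9 ≤ q + 1 by omega) (show 7 ≤ q - 1 by omega)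
            omega
          rw [Nat.odd_iff] at hodd
          interval_cases q <;> omega
      subst hq3
      have hD : dsz h H x P = 8 := by
        rw [dsz, hA, hC, AddSubgroup.card_bot, AddSubgroup.card_bot, hTc]
        norm_num
      refine no_sylow (r := 7) (M := 32) hF h ?_ (by norm_num) (by norm_num) (fun x' y' P' s' => (hdd x' y' P' s').trans hD)
        href (by norm_num) (by norm_num) (by decide +kernel)
      rw [hs.card hF h s, hD]
      norm_num
    -- the roots lie on a line over the fixed field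
    obtain ⟨b, hb, hb0⟩ := (AddSubgroup.bot_or_exists_ne_zero _).resolve_left hA
    have hμ : σ (mu σ ((β : Fˣ) : F)) = mu σ ((β : Fˣ) : F) := by
      have h1 := rts_real h s hC ((scalars_act h s β.2).1 b hb) hb
      rw [map_mul] at h1
      refine (mul_right_cancel₀ (mul_ne_zero hb0 (show σ b ≠ 0 by simpa using hb0)) ?_).symm
      linear_combination h1
    have hμq : muU σ (β : Fˣ) ^ (q - 1) = 1 := by
      have h1 : muU σ (β : Fˣ) ^ q = muU σ (β : Fˣ) := Units.ext (by
        rw [Units.val_pow_eq_pow_val, muU_val, ← hv1, hμ])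
      refine mul_right_cancel (b := muU σ (β : Fˣ)) ?_
      rw [← pow_succ, Nat.sub_add_cancel (show 1 ≤ q by omega), one_mul, h1]
    have hμ2 : muU σ (β : Fˣ) ^ 2 = normU σ (β : Fˣ) := Units.ext (by
      rw [Units.val_pow_eq_pow_val, muU_val, normU_val, sq]
      conv_lhs => arg 2; rw [← hμ]
      simp only [mu, map_mul, map_div₀, h.invol]
      field_simp)
    have hker : ∀ γ : Fˣ, muU σ γ = 1 → γ ^ 3 = 1 := by
      intro γ hγ
      have h1 := congrArg Units.val hγ
      rw [muU_val, Units.val_one, mu, ← mul_div_assoc, div_eq_one_iff_eq γ.ne_zero] at h1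
      have h3 := congrArg σ h1
      rw [map_mul, h.invol] at h3
      refine Units.ext ?_
      rw [Units.val_pow_eq_pow_val, Units.val_one]
      refine mul_right_cancel₀ γ.ne_zero ?_
      linear_combination h1 + (σ (γ : F) + (γ : F) * γ) * h3
    have h3k : ∀ i, muU σ (β : Fˣ) ^ i = 1 → Nat.card (scalars H x) ∣ i * 3 := fun i hi => by
      rw [← ht]
      exact orderOf_dvd_of_pow_eq_one (by rw [pow_mul, hker _ (by rw [map_pow, hi])])
    have hT3 : Nat.card (scalars H x) ∣ (q - 1) * 3 := h3k _ hμq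
    have hT6 : Nat.card (scalars H x) ≤ 6 * j := by
      have h1 := h3k (2 * orderOf (normU σ (β : Fˣ))) (by rw [pow_mul, hμ2, pow_orderOf_eq_one])
      have h3 := Nat.le_of_dvd (Nat.mul_pos (Nat.mul_pos two_pos (orderOf_pos _)) three_pos) h1
      have h4 := Nat.le_of_dvd Nat.card_pos hν
      omega
    have hmul : q ^ 2 - 1 ≤ q * (6 * j) := hbig.trans (Nat.mul_le_mul hAle hT6)
    have hq12 : q ≤ 12 := by
      rcases hcase with hle | ⟨he, -⟩
      · by_contra h13
        have h1 : q * (6 * j) ≤ q * 12 := Nat.mul_le_mul_left _ (by omega)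
        have h3 : q * 13 ≤ q ^ 2 := by rw [sq]; exact Nat.mul_le_mul_left _ (by omega)
        omega
      · have h60 : (q + 1) * j ≤ 60 := by omega
        have hq18 : q ≤ 18 := by
          by_contra h19
          have hj3 : j ≤ 3 := by
            by_contra h4
            have := Nat.mul_le_mul (show 20 ≤ q + 1 by omega) (show 4 ≤ j by omega)
            omega
          have h1 : q * (6 * j) ≤ q * 18 := Nat.mul_le_mul_left _ (by omega)
          have h3 : q * 19 ≤ q ^ 2 := by rw [sq]; exact Nat.mul_le_mul_left _ (by omega)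
          omega
        by_contra h13
        rw [Nat.odd_iff] at hodd
        interval_cases q <;> omega
    have hG : Nat.card (scalars H x) ∣ Nat.gcd ((q - 1) * 3) (q ^ 2 - 1) := Nat.dvd_gcd hT3 hTq
    have hcalc : ∀ g, Nat.gcd ((q - 1) * 3) (q ^ 2 - 1) = g → q * g < q ^ 2 - 1 → False := fun g hg hlt => by
      rw [hg] at hG
      have hgpos : 0 < g := Nat.pos_of_ne_zero fun e => by
        subst e
        have := (Nat.gcd_eq_zero_iff.1 hg).1
        omega
      have := hbig.trans (Nat.mul_le_mul hAle (Nat.le_of_dvd hgpos hG))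
      omega
    rw [Nat.odd_iff] at hodd
    have hq11 : q = 11 := by
      interval_cases q <;> first
        | omega
        | exact (hcalc _ rfl (by norm_num)).elim
    subst hq11
    rw [show Nat.gcd ((11 - 1) * 3) (11 ^ 2 - 1) = 30 by norm_num] at hG
    norm_num at hbig
    have hT30 : Nat.card (scalars H x) = 30 := by
      have h1 : ∀ t ∈ Nat.divisors 30, 2 ∣ t → 11 ≤ t → t = 30 := by decide +kernel
      refine h1 _ (Nat.mem_divisors.2 ⟨hG, by norm_num⟩) h2T ?_
      by_contra h10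
      have := Nat.mul_le_mul hAle (show Nat.card (scalars H x) ≤ 10 by omega)
      omega
    have hA11 : Nat.card (rts h H x P) = 11 := by
      have h1 : ∀ a ∈ Nat.divisors (11 ^ 2), a ≤ 11 → 4 ≤ a → a = 11 := by decide +kernel
      refine h1 _ (Nat.mem_divisors.2 ⟨hAdvd, by norm_num⟩) hAle ?_
      rw [hT30] at hbig
      omega
    have hp11 : p = 11 := by
      have h1 : p ∣ 11 := hqp ▸ dvd_pow_self p fun e => by subst e; simp at hqp
      exact (Nat.prime_dvd_prime_iff_eq hp' (by norm_num)).1 h1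
    subst hp11
    refine eleven_false hF h hs s h2 ?_ hC (ω := (β : Fˣ) ^ 10) ((scalars H x).pow_mem β.2 10) ?_
    · rw [dsz, hA11, hC, AddSubgroup.card_bot, hT30]
    · rw [orderOf_pow, ht, hT30]
      norm_num
  · -- a centre: only the exceptional group of the line
    have hCd : Nat.card (ctr h H x) ∣ p ^ f := by
      have h1 := AddSubgroup.card_addSubgroup_dvd_card (ctr h H x)
      exact h1.trans (dvd_of_eq ((card_Sk hF h).trans hqp))
    obtain ⟨i, hif, hi⟩ := (Nat.dvd_prime_pow hp').1 hCd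
    have hi0 : i ≠ 0 := fun e => hC (AddSubgroup.eq_bot_of_card_eq _ (by rw [hi, e, pow_zero]))
    have hc3 : 3 ≤ Nat.card (ctr h H x) := hi ▸ hp3.trans (Nat.le_self_pow hi0 p)
    rcases hcase with hle | ⟨-, hc1 | ⟨rfl, h60⟩⟩
    · have := Nat.mul_le_mul hc3 hjpos
      omega
    · omega
    have hi1 : i = 1 := by
      by_contra hne
      have h9 : 3 ^ 2 ∣ 60 := (pow_dvd_pow 3 (show 2 ≤ i by omega)).trans ⟨(q + 1) * j, by rw [← h60, hi]; ring⟩
      norm_num at h9
    subst hi1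
    rw [pow_one] at hi
    rw [hi] at hbig h60
    have hf1 : f ≠ 1 := fun e => by
      subst e
      rw [pow_one] at hqp
      exact hs.ctr_ne s (AddSubgroup.eq_top_of_card_eq _ (by rw [hi, card_Sk hF h, hqp]))
    have hq20 : q + 1 ≤ 20 := by
      have := Nat.mul_le_mul_left (q + 1) (Nat.mul_le_mul_left 3 hjpos)
      omega
    have hq9 : q = 9 := by
      have hf3 : f < 3 := (Nat.pow_lt_pow_iff_right (by norm_num : 1 < 3)).1 (by omega : 3 ^ f < 3 ^ 3)
      interval_cases f <;> omega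
    subst hq9
    have hj2 : j = 2 := by omega
    subst hj2
    have hν2 : normU σ (β : Fˣ) ^ 2 = 1 := by
      refine orderOf_dvd_iff_pow_eq_one.1 (hν.trans ?_)
      have := Nat.card_pos (α := norms σ H x)
      interval_cases (Nat.card (norms σ H x)) <;> norm_num
    have h20 : Nat.card (scalars H x) ∣ 20 := by
      rw [← ht]
      refine orderOf_dvd_of_pow_eq_one ?_
      have e : normU σ (β : Fˣ) = (β : Fˣ) ^ 10 := Units.ext (by
        rw [normU_val, hv1, Units.val_pow_eq_pow_val, ← pow_succ'])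
      rwa [e, ← pow_mul] at hν2
    have hμe : muU σ (β : Fˣ) = (β : Fˣ) ^ 17 := Units.ext (by
      rw [muU_val, mu, hv1, Units.val_pow_eq_pow_val, pow_succ _ 8, mul_div_cancel_right₀ _ (Units.ne_zero _),
        ← pow_succ _ 8, ← pow_add])
    have hTa : Nat.card (scalars H x) ∣ 17 * (Nat.card (rts h H x P) - 1) := by
      rw [← ht]
      refine orderOf_dvd_of_pow_eq_one ?_
      rw [pow_mul, ← hμe]
      exact orderOf_dvd_iff_pow_eq_one.1 hm
    have hA1 : Nat.card (rts h H x P) ≠ 1 := fun e => hC (hs.bot s (AddSubgroup.eq_bot_of_card_eq _ e)).1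
    norm_num at hbig
    have hkey : ∀ a ∈ Nat.divisors 81, a ≤ 9 → a ≠ 1 → ∀ t ∈ Nat.divisors 20, t ∣ 17 * (a - 1) →
        80 ≤ a * 3 * t → a = 9 ∧ t = 4 := by decide +kernel
    obtain ⟨ha9, ht4⟩ := hkey _ (Nat.mem_divisors.2 ⟨by simpa using hAdvd, by norm_num⟩) hAle hA1 _
      (Nat.mem_divisors.2 ⟨h20, by norm_num⟩) hTa hbig
    have hD : dsz h H x P = 108 := by rw [dsz, hi, ha9, ht4]
    refine no_sylow (r := 73) (M := 1080) hF h ?_ (by norm_num) (by norm_num) (fun x' y' P' s' => (hdd x' y' P' s').trans hD)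
      href (by norm_num) (by norm_num) (by decide +kernel)
    rw [hs.card hF h s, hD]
    norm_num

end CfsgLib.MinIdx.U3
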