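import Cfsg.Agent.Lib.MinIdx.U3.Line

/-!
# No involution normalizes a Singer element
-/

set_option autoImplicit false

namespace CfsgLib.MinIdx.U3

open Matrix CfsgLib.Classical CfsgLib.Classical.Unitary CfsgLib.MinIdx.Un
open scoped LinearAlgebra.Projectivization

variable {F : Type*} [Field F] [Finite F] {σ : F →+* F} {q : ℕ} {x y : Fin 3 → F}
  {P : Matrix (Fin 3) (Fin 1) F}

omit [Finite F] in
theorem two_mat {R : Type*} [Field R] (h2 : (2 : R) ≠ 0) (M : Matrix (Fin 2) (Fin 2) R) (hM : M * M = 1)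
    (hd : M.det = 1) : M = 1 ∨ M = -1 := by
  rw [det_fin_two] at hd
  have e00 := congrFun (congrFun hM 0) 0
  have e01 := congrFun (congrFun hM 0) 1
  have e10 := congrFun (congrFun hM 1) 0
  have e11 := congrFun (congrFun hM 1) 1
  simp [Matrix.mul_apply, Fin.sum_univ_two] at e00 e01 e10 e11
  have h1 : M 0 0 * (M 0 0 + M 1 1) = 2 := by linear_combination e00 + hd
  have hs : M 0 0 + M 1 1 ≠ 0 := fun e => h2 (by rw [← h1, e, mul_zero])
  have hb : M 0 1 = 0 := (mul_eq_zero.1 (show M 0 1 * (M 0 0 + M 1 1) = 0 by linear_combination e01)).resolve_right hs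
  have hc : M 1 0 = 0 := (mul_eq_zero.1 (show M 1 0 * (M 0 0 + M 1 1) = 0 by linear_combination e10)).resolve_right hs
  have ha : M 0 0 * M 0 0 = 1 := by linear_combination e00 - M 1 0 * hb
  have had : M 1 1 = M 0 0 := by
    linear_combination M 0 0 * hd - M 1 1 * ha + M 0 0 * M 1 0 * hb
  rcases mul_self_eq_one_iff.1 ha with e | e
  · left; ext i j; fin_cases i <;> fin_cases j <;> simp [hb, hc, had, e]
  · right; ext i j; fin_cases i <;> fin_cases j <;> simp [hb, hc, had, e]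

/-- An involution in odd characteristic negates a plane. -/
theorem invol_odd (h : UFrob σ q) (h2 : (2 : F) ≠ 0) {t : Cfsg.SU 3 F q} (ht : t * t = 1) (ht1 : t ≠ 1) :
    ∃ u, uh σ u u ≠ 0 ∧ t.1.1 *ᵥ u = u ∧ ∀ v, uh σ v u = 0 → t.1.1 *ᵥ v = -v := by
  classical
  have htt : ∀ v, t.1.1 *ᵥ (t.1.1 *ᵥ v) = v := fun v => by rw [← su_mul_mulVec, ht, su_one_mulVec]
  have hfx : ∀ v, t.1.1 *ᵥ (v + t.1.1 *ᵥ v) = v + t.1.1 *ᵥ v := fun v => by rw [mulVec_add, htt, add_comm]
  obtain ⟨u, huu, hu⟩ : ∃ u, uh σ u u ≠ 0 ∧ t.1.1 *ᵥ u = u := by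
    by_contra hall
    push Not at hall
    have hiso : ∀ e, t.1.1 *ᵥ e = e → uh σ e e = 0 := fun e he => by
      by_contra hne
      exact hall e hne he
    have hzero : ∀ e, t.1.1 *ᵥ e = e → ∀ f, t.1.1 *ᵥ f = f → uh σ e f = 0 := by
      intro e he f hf
      by_contra hne
      obtain ⟨θ, hθ⟩ := exists_trace h
      have h1 := hiso ((θ / uh σ e f) • e + f) (by rw [mulVec_add, mulVec_smul, he, hf])
      simp only [uh_add_left, uh_add_right, uh_smul_left, uh_smul_right, hiso e he, hiso f hf, ← h.symm e f] at h1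
      have hne' : σ (uh σ e f) ≠ 0 := by simpa using hne
      rw [map_div₀] at h1
      field_simp at h1
      refine one_ne_zero ((mul_eq_zero.1 (?_ : σ (uh σ e f) * uh σ e f * (1 : F) = 0)).resolve_left (mul_ne_zero hne' hne))
      linear_combination h1 - σ (uh σ e f) * uh σ e f * hθ
    have hm : ∀ v, t.1.1 *ᵥ v = -v := fun v => by
      have h0 : v + t.1.1 *ᵥ v = 0 := uh_ext h fun z => by
        rw [uh_zero_right]
        have h1 := hzero _ (hfx z) _ (hfx v)
        rw [uh_add_left] at h1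
        have h3 : uh σ (t.1.1 *ᵥ z) (v + t.1.1 *ᵥ v) = uh σ z (v + t.1.1 *ᵥ v) := by
          conv_lhs => rw [← hfx v]
          exact su_uh h t _ _
        rw [h3, ← two_mul] at h1
        exact (mul_eq_zero.1 h1).resolve_left h2
      exact eq_neg_of_add_eq_zero_right h0
    have hmat : t.1.1 = -1 := Matrix.ext_iff_mulVec.2 fun v => by rw [hm, neg_mulVec, one_mulVec]
    have hdet := t.1.2
    rw [hmat, det_neg, det_one, Fintype.card_fin] at hdet
    exact h2 (by linear_combination -hdet)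
  obtain ⟨Q, hQ, hQu, hdec⟩ := exists_frame_perp (k := 2) h huu
  refine ⟨u, huu, hu, ?_⟩
  have hperp : ∀ a, uh σ (Q *ᵥ a) u = 0 := fun a => by rw [uh_frame_left h, hQu, uh_zero_right]
  have hproj : ∀ v, uh σ v u = 0 → Q *ᵥ ((Q.map σ)ᵀ *ᵥ v) = v := fun v hv => by
    have := hdec v
    rwa [hv, zero_div, zero_smul, zero_add] at this
  obtain ⟨M, hM⟩ : ∃ M, M = (Q.map σ)ᵀ * t.1.1 * Q := ⟨_, rfl⟩
  have hMa : ∀ a, Q *ᵥ (M *ᵥ a) = t.1.1 *ᵥ (Q *ᵥ a) := fun a => by
    rw [hM, ← mulVec_mulVec, ← mulVec_mulVec]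
    refine hproj _ ?_
    rw [← hu, su_uh h]
    exact hperp a
  have hMM : M * M = 1 := Matrix.ext_iff_mulVec.2 fun a => by
    rw [← hQ.apply ((M * M) *ᵥ a), ← mulVec_mulVec a M M, hMa, hMa, htt, hQ.apply, one_mulVec]
  have hmat : t.1.1 = 1 + Q * ((M - 1) * (Q.map σ)ᵀ) := by
    refine Matrix.ext_iff_mulVec.2 fun v => ?_
    rw [add_mulVec, one_mulVec, ← mulVec_mulVec, ← mulVec_mulVec, sub_mulVec, one_mulVec, mulVec_sub, hMa]
    conv_lhs => rw [← hdec v, mulVec_add, mulVec_smul, hu]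
    conv_rhs => arg 1; rw [← hdec v]
    abel
  have hdet : M.det = 1 := by
    have h3 := t.1.2
    rwa [hmat, det_one_add_mul_comm, Matrix.mul_assoc, hQ, Matrix.mul_one, add_sub_cancel] at h3
  rcases two_mat h2 M hMM hdet with e | e
  · exfalso
    refine ht1 (su_ext fun v => ?_)
    rw [hmat, e, sub_self, Matrix.zero_mul, Matrix.mul_zero, add_zero, one_mulVec, su_one_mulVec]
  · intro v hv
    rw [← hproj v hv, ← hMa, e, neg_mulVec, one_mulVec, mulVec_neg]

/-- An involution negates or fixes a hyperplane. -/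
def Reflects (σ : F →+* F) (t : Cfsg.SU 3 F q) : Prop :=
  ∃ (w : Fin 3 → F) (ε : F), w ≠ 0 ∧ ε * ε = 1 ∧ ε ^ 3 = ε ∧ (∀ v, uh σ v w = 0 → t.1.1 *ᵥ v = ε • v) ∧
    (ε = 1 ∨ ε ^ 3 ≠ 1)

theorem reflects_odd (h : UFrob σ q) (h2 : (2 : F) ≠ 0) {t : Cfsg.SU 3 F q} (ht : t * t = 1) (ht1 : t ≠ 1) :
    Reflects σ t := by
  obtain ⟨u, huu, -, hneg⟩ := invol_odd h h2 ht ht1
  exact ⟨u, -1, fun e => huu (by rw [e, uh_zero_left]), by norm_num, by norm_num,
    fun v hv => by rw [hneg v hv, neg_one_smul],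
    Or.inr fun e => h2 (by linear_combination -e)⟩

/-- A vector orthogonal to two others. -/
theorem exists_perp_two (w w' : Fin 3 → F) : ∃ v : Fin 3 → F, v ≠ 0 ∧ uh σ v w = 0 ∧ uh σ v w' = 0 := by
  let φ : (Fin 3 → F) →ₗ[F] F × F :=
    { toFun := fun v => (uh σ v w, uh σ v w')
      map_add' := fun a b => by simp [uh_add_left]
      map_smul' := fun r a => by simp [uh_smul_left] }
  have h1 : LinearMap.ker φ ≠ ⊥ := by
    intro hb
    have h3 := LinearMap.finrank_le_finrank_of_injective (LinearMap.ker_eq_bot.1 hb)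
    simp [Module.finrank_prod] at h3
  obtain ⟨v, hv, hv0⟩ := Submodule.exists_mem_ne_zero_of_ne_bot h1
  have hv' : φ v = 0 := hv
  exact ⟨v, hv0, congrArg Prod.fst hv', congrArg Prod.snd hv'⟩

/-- No involution of `H` normalizes a cyclic subgroup of large prime order acting freely on points. -/
theorem no_norm (hF : Nat.card F = q ^ 2) (h : UFrob σ q) {H : Subgroup (Cfsg.SU 3 F q)} {r : ℕ} (hr : r.Prime)
    (hrq : q + 1 < r)
    (hd : ∀ (x y : Fin 3 → F) (P : Matrix (Fin 3) (Fin 1) F), Split σ 1 x y P → ¬ r ∣ dsz h H x P)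
    {g t : H} (hg : orderOf g = r) (ht : t * t = 1) (ht1 : t ≠ 1) (href : Reflects σ t.1)
    (hn : t * g * t⁻¹ ∈ Subgroup.zpowers g) : False := by
  classical
  haveI : Fact r.Prime := ⟨hr⟩
  have hq := two_le_q hF
  -- g has no eigenvector
  have hiso : ∀ v, v ≠ 0 → uh σ v v = 0 → ∀ lam : F, g.1.1.1 *ᵥ v ≠ lam • v := by
    intro v hv hvv lam he
    obtain ⟨y, P, s⟩ := exists_split (m := 1) h hv hvv
    refine hd v y P s ?_
    rw [dsz, ← card_stX h H s, ← hg, ← Subgroup.orderOf_coe]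
    have hmem : g.1 ∈ stX H v := ⟨g.2, Units.mk0 lam fun e => hv (by
      rw [← su_inv_mulVec g.1 v, he, e, zero_smul, mulVec_zero]), he⟩
    exact (stX H v).orderOf_dvd_natCard hmem
  have heig : ∀ v, v ≠ 0 → ∀ lam : F, g.1.1.1 *ᵥ v ≠ lam • v := by
    intro v hv lam he
    rcases eq_or_ne (uh σ v v) 0 with hvv | hvv
    · exact hiso v hv hvv lam he
    obtain ⟨Q, hQ, hQv, -⟩ := exists_frame_perp (k := 2) h hvv
    have hperp : ∀ a, uh σ (Q *ᵥ a) v = 0 := fun a => by rw [uh_frame_left h, hQv, uh_zero_right]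
    obtain ⟨a, ha0, haa⟩ := exists_iso_vector (m := 2) h le_rfl
    obtain ⟨b, P2, s2⟩ := exists_split (m := 0) h ha0 haa
    obtain ⟨P, s⟩ := exists_split_pair (m := 1) h (x := Q *ᵥ a) (y := Q *ᵥ b)
      (by rw [uh_frame_left h, hQ.apply, haa]) (by rw [uh_frame_left h, hQ.apply, s2.yy])
      (by rw [uh_frame_left h, hQ.apply, s2.xy])
    have hvu : v = uh σ v (uv P) • uv P := by
      have h1 := dec3 h s v
      rw [h.swap_zero (hperp a), h.swap_zero (hperp b), zero_smul, zero_smul, zero_add, zero_add] at h1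
      exact h1.symm
    have hc : uh σ v (uv P) ≠ 0 := fun e => hv (by rw [hvu, e, zero_smul])
    have hu : g.1.1.1 *ᵥ uv P = lam • uv P := by
      refine smul_right_injective _ hc ?_
      show uh σ v (uv P) • g.1.1.1 *ᵥ uv P = uh σ v (uv P) • lam • uv P
      rw [← mulVec_smul, ← hvu, he, smul_comm, ← hvu]
    have hlam : lam ≠ 0 := fun e => hv (by rw [← su_inv_mulVec g.1 v, he, e, zero_smul, mulVec_zero])
    let L : Subgroup (Cfsg.SU 3 F q) := stU H (uv P)
    have hgL : g.1 ∈ L := ⟨g.2, Units.mk0 lam hlam, hu⟩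
    let x₀ := ptX s
    have hx₀ : OnLn σ (uv P) x₀ := (onLn_mk _).2 ⟨s.xx, h.swap_zero (uv_x s)⟩
    let S := {p : ℙ F (Fin 3 → F) // OnLn σ (uv P) p}
    let gl : L := ⟨g.1, hgL⟩
    have hpg : IsPGroup r (Subgroup.zpowers gl) := IsPGroup.of_card (n := 1) (by
      rw [Nat.card_zpowers, ← Subgroup.orderOf_coe, show ((gl : L) : Cfsg.SU 3 F q) = g.1 from rfl,
        Subgroup.orderOf_coe, hg, pow_one])
    have horb : Nat.card (MulAction.orbit (Subgroup.zpowers gl) x₀) ≤ q + 1 := by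
      rw [← card_line hF h s]
      refine Nat.card_le_card_of_injective (fun p => (⟨p.1, ?_⟩ : S)) fun p p' e => Subtype.ext (congrArg Subtype.val e :)
      obtain ⟨k, hk⟩ := p.2
      exact hk ▸ onLn_smul h k.1.2 hx₀
    obtain ⟨i, hi⟩ := hpg.card_orbit x₀
    have hi0 : i = 0 := by
      by_contra hi0
      have := Nat.le_self_pow hi0 r
      omega
    rw [hi0, pow_zero] at hi
    haveI := (Nat.card_eq_one_iff_unique.1 hi).1
    have hfix : g.1 • x₀ = x₀ := congrArg Subtype.val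
      (Subsingleton.elim (⟨g.1 • x₀, ⟨⟨gl, Subgroup.mem_zpowers _⟩, rfl⟩⟩ : MulAction.orbit (Subgroup.zpowers gl) x₀)
        ⟨x₀, MulAction.mem_orbit_self _⟩)
    obtain ⟨α, hα⟩ := (smul_ptX_iff s g.1).1 hfix
    exact hiso _ s.x_ne s.xx _ hα
  obtain ⟨w, ε, hw, hε, hε3, hsp, hscal⟩ := href
  obtain ⟨i, hi⟩ := Subgroup.mem_zpowers_iff.1 hn
  have hinv : t⁻¹ = t := inv_eq_of_mul_eq_one_right ht
  have hconj : ∀ m : ℤ, t * g ^ m * t⁻¹ = g ^ (i * m) := fun m => by
    rw [← conj_zpow, ← hi, _root_.zpow_mul]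
  have h2 : g ^ (i * i) = g := by
    rw [← hconj, hi, hinv, show t * (t * g * t) * t = (t * t) * g * (t * t) by group, ht, one_mul, mul_one]
  have h3 : (orderOf g : ℤ) ∣ i * i - 1 :=
    orderOf_dvd_iff_zpow_eq_one.2 (by rw [_root_.zpow_sub, zpow_one, h2, mul_inv_cancel])
  rw [hg, show i * i - 1 = (i - 1) * (i + 1) by ring] at h3
  have hp' : Prime (r : ℤ) := Nat.prime_iff_prime_int.1 hr
  rcases hp'.dvd_or_dvd h3 with h4 | h4
  · -- commuting
    have h5 : g ^ (i - 1) = 1 := orderOf_dvd_iff_zpow_eq_one.1 (by rwa [hg])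
    have h6 : g ^ i = g := by rwa [_root_.zpow_sub, zpow_one, mul_inv_eq_one] at h5
    rw [h6] at hi
    have hcom : ∀ v, t.1.1.1 *ᵥ (g.1.1.1 *ᵥ v) = g.1.1.1 *ᵥ (t.1.1.1 *ᵥ v) := fun v => by
      have e : t * g = g * t := by
        calc t * g = t * g * t⁻¹ * t := by group
          _ = g * t := by rw [← hi]
      rw [← su_mul_mulVec, ← su_mul_mulVec, ← Subgroup.coe_mul, ← Subgroup.coe_mul, e]
    -- the hyperplane is the whole eigenspace
    have hmax : ∀ z, t.1.1.1 *ᵥ z = ε • z → uh σ z w = 0 := by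
      intro z hz
      by_contra hzw
      refine ht1 (Subtype.ext ?_)
      have hall : ∀ v, t.1.1.1 *ᵥ v = ε • v := fun v => by
        have h7 := hsp (v - (uh σ v w / uh σ z w) • z) (by
          rw [uh_sub_left, uh_smul_left, div_mul_cancel₀ _ hzw, sub_self])
        rw [mulVec_sub, mulVec_smul, hz] at h7
        linear_combination (norm := module) h7
      have hmat : t.1.1.1 = ε • 1 := Matrix.ext_iff_mulVec.2 fun v => by rw [hall, smul_mulVec, one_mulVec]
      have hdet := t.1.1.2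
      rw [hmat, det_smul, det_one, mul_one, Fintype.card_fin] at hdet
      rcases hscal with e | e
      · refine su_ext fun v => ?_
        rw [hall, e, one_smul]
        exact (su_one_mulVec v).symm
      · exact absurd hdet e
    have hgw : ∀ v, uh σ v w = 0 → uh σ (g.1.1.1 *ᵥ v) w = 0 := fun v hv =>
      hmax _ (by rw [hcom, hsp v hv, mulVec_smul])
    have hgw' : ∀ v, uh σ v w = 0 → uh σ v ((g⁻¹).1.1.1 *ᵥ w) = 0 := fun v hv => by
      have h8 := su_uh h g.1 v ((g⁻¹).1.1.1 *ᵥ w)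
      rw [show g.1.1.1 *ᵥ ((g⁻¹).1.1.1 *ᵥ w) = w from su_mulVec_inv g.1 w, hgw v hv] at h8
      exact h8.symm
    obtain ⟨b, hb⟩ := exists_uh_eq_one h hw
    obtain ⟨w', hw'⟩ : ∃ w', w' = (g⁻¹).1.1.1 *ᵥ w := ⟨_, rfl⟩
    have hw'e : w' = σ (uh σ b w') • w := uh_ext h fun v => by
      rw [uh_smul_right, h.invol]
      have h9 := hgw' (v - uh σ v w • b) (by rw [uh_sub_left, uh_smul_left, hb, mul_one, sub_self])
      rw [← hw', uh_sub_left, uh_smul_left, sub_eq_zero] at h9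
      rw [h9, mul_comm]
    have hμ : σ (uh σ b w') ≠ 0 := fun e => hw (by
      rw [← su_mulVec_inv g.1 w, show (g.1⁻¹).1.1 *ᵥ w = w' from hw'.symm, hw'e, e, zero_smul, mulVec_zero])
    refine heig w hw (σ (uh σ b w'))⁻¹ ?_
    rw [eq_inv_smul_iff₀ hμ, ← mulVec_smul, ← hw'e, hw']
    exact su_mulVec_inv g.1 w
  · -- inverting
    have h5 : g ^ (i + 1) = 1 := orderOf_dvd_iff_zpow_eq_one.1 (by rwa [hg])
    have h6 : g ^ i = g⁻¹ := by rwa [_root_.zpow_add, zpow_one, ← eq_inv_iff_mul_eq_one] at h5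
    rw [h6] at hi
    obtain ⟨v, hv, hv1, hv2⟩ := exists_perp_two (σ := σ) w (g.1.1.1 *ᵥ w)
    have e1 : t.1.1.1 *ᵥ v = ε • v := hsp v hv1
    have e2 : (g * t * g⁻¹).1.1.1 *ᵥ v = ε • v := by
      have h7 : uh σ ((g⁻¹).1.1.1 *ᵥ v) w = 0 := by
        rw [← su_uh h g.1, show g.1.1.1 *ᵥ ((g⁻¹).1.1.1 *ᵥ v) = v from su_mulVec_inv g.1 v]
        exact hv2
      show ((g.1 * t.1 * (g⁻¹).1)).1.1 *ᵥ v = _
      rw [su_mul_mulVec, su_mul_mulVec, hsp _ h7, mulVec_smul]
      exact congrArg (ε • ·) (su_mulVec_inv g.1 v)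
    have e : g * t * g⁻¹ * t = g * g := by
      have : t * g⁻¹ * t = g := by
        rw [hi]
        calc t * (t * g * t⁻¹) * t = (t * t) * g := by group
          _ = g := by rw [ht, one_mul]
      calc g * t * g⁻¹ * t = g * (t * g⁻¹ * t) := by group
        _ = g * g := by rw [this]
    have h8 : (g * g).1.1.1 *ᵥ v = v := by
      rw [← e]
      show (((g * t * g⁻¹).1) * t.1).1.1 *ᵥ v = v
      rw [su_mul_mulVec, e1, mulVec_smul, e2, smul_smul, hε, one_smul]
    have hpow : ∀ k : ℕ, ((g * g) ^ k).1.1.1 *ᵥ v = v := fun k => by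
      induction k with
      | zero => rw [pow_zero]; exact su_one_mulVec v
      | succ k ih =>
        rw [pow_succ]
        show (((g * g) ^ k).1 * (g * g).1).1.1 *ᵥ v = v
        rw [su_mul_mulVec, h8, ih]
    refine heig v hv 1 ?_
    obtain ⟨k, hk⟩ := hr.odd_of_ne_two (by omega)
    have h9 : (g * g) ^ (k + 1) = g := by
      rw [← sq, ← pow_mul, show 2 * (k + 1) = r + 1 by omega, pow_succ, ← hg, pow_orderOf_eq_one, one_mul]
    rw [one_smul, ← congrArg (fun m : H => m.1.1.1 *ᵥ v) h9]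
    exact hpow _

end CfsgLib.MinIdx.U3
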