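import Cfsg.Agent.Lib.MinIdx.U3.Singer

/-!
# Sylow counting for a Singer prime
-/

set_option autoImplicit false

namespace CfsgLib.MinIdx.U3

open Matrix CfsgLib.Classical CfsgLib.Classical.Unitary CfsgLib.MinIdx.Un

/-- A Sylow subgroup of prime order, its count and its normalizer. -/
theorem sylow_step {G : Type*} [Group G] [Finite G] {r M : ℕ} [Fact r.Prime] (hG : Nat.card G = r * M)
    (hM : ¬ r ∣ M) :
    ∃ (g : G) (n : ℕ), orderOf g = r ∧ n ∣ M ∧ n % r = 1 % r ∧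
      Nat.card (Subgroup.normalizer (Subgroup.zpowers g : Set G)) * n = r * M := by
  have hr : r.Prime := Fact.out
  obtain ⟨P⟩ := (inferInstance : Nonempty (Sylow r G))
  have hP : Nat.card (P : Subgroup G) = r := by
    have hM0 : M ≠ 0 := fun e => hM (e ▸ dvd_zero r)
    rw [P.card_eq_multiplicity, hG, Nat.factorization_mul hr.ne_zero hM0, Finsupp.add_apply, hr.factorization_self,
      Nat.factorization_eq_zero_of_not_dvd hM]
    simp
  obtain ⟨g, hg⟩ := exists_prime_orderOf_dvd_card' (G := (P : Subgroup G)) r (by rw [hP])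
  have hz : Subgroup.zpowers (g : G) = (P : Subgroup G) := by
    refine Subgroup.eq_of_le_of_card_ge (Subgroup.zpowers_le.2 g.2) ?_
    rw [hP, Nat.card_zpowers, Subgroup.orderOf_coe, hg]
  refine ⟨g, Nat.card (Sylow r G), by rw [Subgroup.orderOf_coe, hg], ?_, card_sylow_modEq_one r G, ?_⟩
  · have h1 := P.card_dvd_index
    have h2 : (P : Subgroup G).index = M := by
      have h3 := (P : Subgroup G).index_mul_card
      rw [hP, hG, mul_comm] at h3
      exact Nat.eq_of_mul_eq_mul_left hr.pos h3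
    rwa [h2] at h1
  · rw [hz, P.card_eq_index_normalizer]; exact (Subgroup.card_mul_index _).trans hG

open scoped LinearAlgebra.Projectivization

variable {F : Type*} [Field F] [Finite F] {σ : F →+* F} {q : ℕ}

/-- The normalizer of a Singer element has odd order. -/
theorem normalizer_odd (hF : Nat.card F = q ^ 2) (h : UFrob σ q) {H : Subgroup (Cfsg.SU 3 F q)} {r : ℕ} (hr : r.Prime)
    (hrq : q + 1 < r)
    (hd : ∀ (x y : Fin 3 → F) (P : Matrix (Fin 3) (Fin 1) F), Split σ 1 x y P → ¬ r ∣ dsz h H x P)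
    (href : ∀ t : Cfsg.SU 3 F q, t ∈ H → t * t = 1 → t ≠ 1 → Reflects σ t) {g : H} (hg : orderOf g = r) :
    ¬ 2 ∣ Nat.card (Subgroup.normalizer (Subgroup.zpowers g : Set H)) := by
  intro h2
  haveI : Fact (Nat.Prime 2) := ⟨Nat.prime_two⟩
  obtain ⟨t, ht⟩ := exists_prime_orderOf_dvd_card' 2 h2
  have ht' : orderOf t.1 = 2 := by rw [Subgroup.orderOf_coe, ht]
  have htt : t.1 * t.1 = 1 := by rw [← sq, ← ht', pow_orderOf_eq_one]
  have ht1 : t.1 ≠ 1 := fun e => by rw [e, orderOf_one] at ht'; norm_num at ht'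
  refine no_norm hF h hr hrq hd hg htt ht1 (href _ t.1.2 (congrArg Subtype.val htt) fun e => ht1 (Subtype.ext e)) ?_
  exact (Subgroup.mem_normalizer_iff.1 t.2 g).1 (Subgroup.mem_zpowers g)

/-- No group with these orders. -/
theorem no_sylow (hF : Nat.card F = q ^ 2) (h : UFrob σ q) {H : Subgroup (Cfsg.SU 3 F q)} {r M D : ℕ}
    (hH : Nat.card H = r * M) (hr : r.Prime) (hrq : q + 1 < r)
    (hd : ∀ (x y : Fin 3 → F) (P : Matrix (Fin 3) (Fin 1) F), Split σ 1 x y P → dsz h H x P = D)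
    (href : ∀ t : Cfsg.SU 3 F q, t ∈ H → t * t = 1 → t ≠ 1 → Reflects σ t) (hrD : ¬ r ∣ D) (hrM : ¬ r ∣ M)
    (hnum : ∀ n ∈ Nat.divisors M, n % r = 1 → 2 ∣ r * M / n) : False := by
  haveI : Fact r.Prime := ⟨hr⟩
  obtain ⟨g, n, hg, hnM, hnr, hN⟩ := sylow_step hH hrM
  have hM0 : M ≠ 0 := fun e => hrM (e ▸ dvd_zero r)
  rw [Nat.one_mod_eq_one.2 hr.one_lt.ne'] at hnr
  have h2 := hnum n (Nat.mem_divisors.2 ⟨hnM, hM0⟩) hnr
  rw [← hN, Nat.mul_div_cancel _ (Nat.pos_of_dvd_of_pos hnM (Nat.pos_of_ne_zero hM0))] at h2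
  exact normalizer_odd hF h hr hrq (fun x y P s => hd x y P s ▸ hrD) href hg h2

end CfsgLib.MinIdx.U3
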